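import Mathlib

set_option autoImplicit false
set_option linter.style.haveILetI false
set_option linter.unusedSectionVars false

/-!
# Tools for simple groups of a given order (helper9)

Generic lemmas used to analyse a finite simple group `G` from its order:

* `OrdTools.sylow_card`: order of a Sylow subgroup from a coprime factorisation of `|G|`;
* `OrdTools.sylow_num`: `n_p ∣ |G : P|`, `n_p ≡ 1 (mod p)`, `n_p ≠ 1`, `|N(P)| · n_p = |G|`;
* `OrdTools.card_dvd_factorial_index`: `|G| ∣ [G : H]!` for a proper subgroup `H`;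
* `OrdTools.alt_index`: if `[G : H] = n ≥ 5` then `|G| ∣ n!/2`, and `k = (n!/2)/|G|` is `1` or
  `n!/2 ∣ k!`;
* `OrdTools.not_normalizer_le_centralizer`: Burnside's transfer theorem for simple groups;
* `OrdTools.eq_one_of_commute_normalizer`: an abelian Sylow subgroup of a non-abelian simple
  group meets the centre of its normalizer trivially;
* `OrdTools.normalizer_centralizer_prime`: for a Sylow subgroup of prime order `p`,
  `|N(P)| = e |C(P)|` with `1 < e ∣ p - 1`;
* `OrdTools.card_centralizer_of_num`: if `|P| = p` and `n_p = p + 1` then `|C(P)| = p`;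
* `OrdTools.le_normalizer_of_card_two_mul`: subgroups of index two are normal.
-/

namespace Cfsg.Agent.Helper9

namespace OrdTools

open Subgroup

variable {G : Type*} [Group G] [Finite G]

/-- order of a Sylow subgroup from a coprime factorization of the group order. -/
theorem sylow_card {p : ℕ} [Fact p.Prime] (a m : ℕ) (hcard : Nat.card G = p ^ a * m)
    (hm : ¬ p ∣ m) (P : Sylow p G) : Nat.card (P : Subgroup G) = p ^ a := by
  have hp : p.Prime := Fact.out
  have hm0 : m ≠ 0 := fun h => hm (h ▸ dvd_zero p)
  rw [Sylow.card_eq_multiplicity, hcard, Nat.factorization_mul (pow_ne_zero _ hp.ne_zero) hm0,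
    Nat.Prime.factorization_pow hp, Finsupp.add_apply, Finsupp.single_eq_same,
    Nat.factorization_eq_zero_of_not_dvd hm, add_zero]

/-- Sylow's theorems for a simple group, in numerical form. -/
theorem sylow_num [IsSimpleGroup G] {p : ℕ} [Fact p.Prime] (P : Sylow p G)
    (h1 : 1 < Nat.card (P : Subgroup G)) (h2 : Nat.card (P : Subgroup G) < Nat.card G) :
    Nat.card (Sylow p G) ∣ (P : Subgroup G).index ∧ Nat.card (Sylow p G) % p = 1 ∧
      Nat.card (Sylow p G) ≠ 1 ∧
      Nat.card (normalizer ((P : Subgroup G) : Set G)) * Nat.card (Sylow p G) = Nat.card G := by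
  have hp : p.Prime := Fact.out
  refine ⟨Sylow.card_dvd_index P, ?_, ?_, ?_⟩
  · have := card_sylow_modEq_one p G
    rw [Nat.ModEq, Nat.mod_eq_of_lt hp.one_lt] at this
    exact this
  · intro h3
    have : Subsingleton (Sylow p G) := (Nat.card_eq_one_iff_unique.mp h3).1
    have hn : (P : Subgroup G).Normal := Sylow.normal_of_subsingleton P
    rcases hn.eq_bot_or_eq_top with h4 | h4
    · rw [h4, Subgroup.card_bot] at h1
      exact lt_irrefl _ h1
    · rw [h4, Subgroup.card_top] at h2
      exact lt_irrefl _ h2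
  · have := Sylow.card_eq_index_normalizer P
    rw [this]
    exact Subgroup.card_mul_index _

omit [Finite G] in
/-- In a simple group, the action on the cosets of a proper subgroup is faithful. -/
theorem toPermHom_injective [IsSimpleGroup G] (H : Subgroup G)
    (hH : H ≠ ⊤) : Function.Injective (MulAction.toPermHom G (G ⧸ H)) := by
  rw [← MonoidHom.ker_eq_bot_iff, ← Subgroup.normalCore_eq_ker]
  rcases (H.normalCore_normal).eq_bot_or_eq_top with h | h
  · exact h
  · exact absurd (top_le_iff.mp (h ▸ H.normalCore_le)) hH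

/-- In a finite simple group, the order divides the factorial of the index of any proper
subgroup. -/
theorem card_dvd_factorial_index [IsSimpleGroup G]
    (H : Subgroup G) (hH : H ≠ ⊤) : Nat.card G ∣ (H.index).factorial := by
  have hinj := toPermHom_injective H hH
  have h1 : Nat.card G = Nat.card (MulAction.toPermHom G (G ⧸ H)).range :=
    Nat.card_congr (MonoidHom.ofInjective hinj).toEquiv
  rw [h1, Subgroup.index_eq_card, ← Nat.card_perm]
  exact Subgroup.card_subgroup_dvd_card _

omit [Finite G] in
/-- a simple group with two non-commuting elements has no nontrivial homomorphism to a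
commutative group. -/
theorem hom_trivial [IsSimpleGroup G] (hna : ∃ a b : G, a * b ≠ b * a) {A : Type*}
    [CommGroup A] (f : G →* A) (g : G) : f g = 1 := by
  rcases (MonoidHom.normal_ker f).eq_bot_or_eq_top with h | h
  · exfalso
    obtain ⟨a, b, hab⟩ := hna
    apply hab
    apply (MonoidHom.ker_eq_bot_iff f).mp h
    rw [map_mul, map_mul, mul_comm]
  · have : g ∈ f.ker := h ▸ Subgroup.mem_top g
    exact MonoidHom.mem_ker.mp this

/-- Burnside's transfer theorem: in a simple group a proper nontrivial Sylow subgroup is not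
central in its normalizer. -/
theorem not_normalizer_le_centralizer [IsSimpleGroup G] {p : ℕ} [Fact p.Prime] (P : Sylow p G)
    (h1 : 1 < Nat.card (P : Subgroup G)) (h2 : Nat.card (P : Subgroup G) < Nat.card G) :
    ¬ normalizer ((P : Subgroup G) : Set G) ≤ centralizer ((P : Subgroup G) : Set G) := by
  intro hP
  have hc := MonoidHom.ker_transferSylow_isComplement' P hP
  have hn : (MonoidHom.transferSylow P hP).ker.Normal := MonoidHom.normal_ker _
  have hcm := hc.card_mul_card
  rcases hn.eq_bot_or_eq_top with h | h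
  · rw [h, Subgroup.card_bot, one_mul] at hcm
    omega
  · rw [h, Subgroup.card_top] at hcm
    have hG : 0 < Nat.card G := Nat.card_pos
    have : Nat.card (P : Subgroup G) = 1 := by
      have h3 : Nat.card G * Nat.card (P : Subgroup G) = Nat.card G * 1 := by rw [hcm, mul_one]
      exact Nat.eq_of_mul_eq_mul_left hG h3
    omega

open scoped IsMulCommutative in
/-- An abelian Sylow subgroup of a non-abelian simple group meets the centre of its normalizer
trivially (transfer). -/
theorem eq_one_of_commute_normalizer [IsSimpleGroup G] (hna : ∃ a b : G, a * b ≠ b * a)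
    {p : ℕ} [Fact p.Prime] (P : Sylow p G)
    (hab : ∀ a ∈ (P : Subgroup G), ∀ b ∈ (P : Subgroup G), a * b = b * a)
    (y : G) (hy : y ∈ (P : Subgroup G))
    (hc : ∀ n ∈ normalizer ((P : Subgroup G) : Set G), n * y = y * n) : y = 1 := by
  have : IsMulCommutative (P : Subgroup G) := ⟨⟨fun a b => Subtype.ext (hab a a.2 b b.2)⟩⟩
  have key : ∀ (k : ℕ) (g₀ : G), g₀⁻¹ * y ^ k * g₀ ∈ (P : Subgroup G) →
      g₀⁻¹ * y ^ k * g₀ = y ^ k := by
    intro k g₀ hk
    obtain ⟨n, hn, hn'⟩ := P.conj_eq_normalizer_conj_of_mem (y ^ k) g₀ (pow_mem hy k) hk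
    rw [hn']
    have h1 : n * y ^ k = y ^ k * n := by
      have : Commute n y := hc n hn
      exact (this.pow_right k).eq
    rw [mul_assoc, ← h1, ← mul_assoc, inv_mul_cancel, one_mul]
  have h1 := MonoidHom.transfer_eq_pow (MonoidHom.id (P : Subgroup G)) y key
  rw [hom_trivial hna] at h1
  have h2 : y ^ (P : Subgroup G).index = 1 := by
    have := congrArg Subtype.val h1
    simpa using this.symm
  have h3 : (⟨y, hy⟩ : (P : Subgroup G)) ^ (P : Subgroup G).index = 1 ^ (P : Subgroup G).index := by
    apply Subtype.ext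
    simp [h2]
  have h4 := (P.2.powEquiv' P.not_dvd_index).injective h3
  exact congrArg Subtype.val h4

/-- if `H ≤ K` with `|K| = 2 |H|` then `K` normalizes `H`. -/
theorem le_normalizer_of_card_two_mul {H K : Subgroup G} (hHK : H ≤ K)
    (h : Nat.card K = 2 * Nat.card H) : K ≤ normalizer (H : Set G) := by
  have hidx : (H.subgroupOf K).index = 2 := by
    have h1 := (H.subgroupOf K).card_mul_index
    rw [Nat.card_congr (Subgroup.subgroupOfEquivOfLe hHK).toEquiv, h] at h1
    have hH : 0 < Nat.card H := Nat.card_pos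
    have : Nat.card H * (H.subgroupOf K).index = Nat.card H * 2 := by rw [h1]; ring
    exact Nat.eq_of_mul_eq_mul_left hH this
  have hn : (H.subgroupOf K).Normal := Subgroup.normal_of_index_eq_two hidx
  have hconj : ∀ c ∈ K, ∀ a ∈ H, c * a * c⁻¹ ∈ H := by
    intro c hc a ha
    have := hn.conj_mem ⟨a, hHK ha⟩ (Subgroup.mem_subgroupOf.mpr ha) ⟨c, hc⟩
    exact Subgroup.mem_subgroupOf.mp this
  intro c hc
  rw [Subgroup.mem_normalizer_iff]
  intro a
  constructor
  · exact hconj c hc a
  · intro ha
    have := hconj c⁻¹ (K.inv_mem hc) _ ha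
    simpa [mul_assoc] using this

/-- a nontrivial element of a Sylow subgroup of prime order generates it. -/
theorem zpowers_eq_sylow {p : ℕ} [Fact p.Prime] (P : Sylow p G)
    (hP : Nat.card (P : Subgroup G) = p) {x : G} (hx : x ∈ (P : Subgroup G)) (hx1 : x ≠ 1) :
    zpowers x = (P : Subgroup G) := by
  have hp : p.Prime := Fact.out
  have hle : zpowers x ≤ (P : Subgroup G) := (Subgroup.zpowers_le).mpr hx
  refine Subgroup.eq_of_le_of_card_ge hle ?_
  have h1 : Nat.card (zpowers x) ∣ p := hP ▸ Subgroup.card_dvd_of_le hle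
  rw [Nat.card_zpowers] at h1 ⊢
  rcases (Nat.dvd_prime hp).mp h1 with h2 | h2
  · exact absurd (orderOf_eq_one_iff.mp h2) hx1
  · rw [hP, h2]

omit [Finite G] in
/-- the centralizer of an element is the centralizer of the cyclic group it generates. -/
theorem centralizer_singleton_eq {x : G} {H : Subgroup G} (h : zpowers x = H) :
    centralizer ({x} : Set G) = centralizer (H : Set G) := by
  subst h
  ext c
  rw [Subgroup.mem_centralizer_iff, Subgroup.mem_centralizer_iff]
  constructor
  · intro hc w hw
    obtain ⟨k, rfl⟩ := Subgroup.mem_zpowers_iff.mp hw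
    have : Commute x c := hc x rfl
    exact (this.zpow_left k).eq
  · intro hc w hw
    rw [Set.mem_singleton_iff] at hw
    subst hw
    exact hc w (Subgroup.mem_zpowers w)

/-- an element of order `p` generates a Sylow `p`-subgroup if these have order `p`. -/
theorem exists_sylow_of_orderOf {p : ℕ} [Fact p.Prime]
    (hS : ∀ P : Sylow p G, Nat.card (P : Subgroup G) = p) {x : G} (hx : orderOf x = p) :
    ∃ P : Sylow p G, zpowers x = (P : Subgroup G) := by
  have hz : IsPGroup p (zpowers x) :=
    IsPGroup.of_card (n := 1) (by rw [Nat.card_zpowers, hx, pow_one])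
  obtain ⟨P, hP⟩ := hz.exists_le_sylow
  exact ⟨P, Subgroup.eq_of_le_of_card_ge hP (by rw [Nat.card_zpowers, hx, hS P])⟩

/-- a Sylow subgroup of prime order is contained in its centralizer. -/
theorem le_centralizer_of_prime {p : ℕ} [Fact p.Prime] (P : Sylow p G)
    (hP : Nat.card (P : Subgroup G) = p) :
    (P : Subgroup G) ≤ centralizer ((P : Subgroup G) : Set G) := by
  have hp : p.Prime := Fact.out
  haveI : Fact (Nat.card (P : Subgroup G)).Prime := ⟨hP.symm ▸ hp⟩
  haveI : IsCyclic (P : Subgroup G) := isCyclic_of_prime_card rfl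
  obtain ⟨g, hg⟩ := IsCyclic.exists_generator (α := (P : Subgroup G))
  intro a ha
  rw [Subgroup.mem_centralizer_iff]
  intro b hb
  obtain ⟨i, hi⟩ := Subgroup.mem_zpowers_iff.mp (hg ⟨a, ha⟩)
  obtain ⟨j, hj⟩ := Subgroup.mem_zpowers_iff.mp (hg ⟨b, hb⟩)
  have h1 : (⟨b, hb⟩ : (P : Subgroup G)) * ⟨a, ha⟩ = ⟨a, ha⟩ * ⟨b, hb⟩ := by
    rw [← hi, ← hj]
    exact ((Commute.refl g).zpow_zpow j i).eq
  exact congrArg Subtype.val h1

/-- for a Sylow subgroup `P` of prime order `p` in a simple group: `|N(P)| = e |C(P)|` with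
`1 < e ∣ p - 1`, and `p ∣ |C(P)|`. -/
theorem normalizer_centralizer_prime [IsSimpleGroup G] {p : ℕ} [Fact p.Prime] (P : Sylow p G)
    (hP : Nat.card (P : Subgroup G) = p) (hlt : p < Nat.card G) :
    ∃ e, e ∣ p - 1 ∧ 1 < e ∧
      Nat.card (normalizer ((P : Subgroup G) : Set G)) =
        e * Nat.card (centralizer ((P : Subgroup G) : Set G)) ∧
      p ∣ Nat.card (centralizer ((P : Subgroup G) : Set G)) := by
  have hp : p.Prime := Fact.out
  haveI : Fact (Nat.card (P : Subgroup G)).Prime := ⟨hP.symm ▸ hp⟩
  haveI hcyc : IsCyclic (P : Subgroup G) := isCyclic_of_prime_card rfl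
  have key := Subgroup.card_dvd_of_injective _
    (QuotientGroup.kerLift_injective (P : Subgroup G).normalizerMonoidHom)
  rw [Subgroup.normalizerMonoidHom_ker, ← Subgroup.index, ← Subgroup.relIndex,
    hcyc.card_mulAut, hP, Nat.totient_prime hp] at key
  have hCN : centralizer ((P : Subgroup G) : Set G) ≤ normalizer ((P : Subgroup G) : Set G) :=
    Subgroup.centralizer_le_normalizer _
  have hmul : (centralizer ((P : Subgroup G) : Set G)).relIndex
      (normalizer ((P : Subgroup G) : Set G)) *
      Nat.card (centralizer ((P : Subgroup G) : Set G)) =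
      Nat.card (normalizer ((P : Subgroup G) : Set G)) := by
    have h1 := ((centralizer ((P : Subgroup G) : Set G)).subgroupOf
      (normalizer ((P : Subgroup G) : Set G))).card_mul_index
    rw [Nat.card_congr (Subgroup.subgroupOfEquivOfLe hCN).toEquiv] at h1
    rw [Subgroup.relIndex, mul_comm]
    exact h1
  refine ⟨_, key, ?_, hmul.symm, ?_⟩
  · by_contra hle
    have hC0 : 0 < Nat.card (centralizer ((P : Subgroup G) : Set G)) := Nat.card_pos
    have hN0 : 0 < Nat.card (normalizer ((P : Subgroup G) : Set G)) := Nat.card_pos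
    have h1 : (centralizer ((P : Subgroup G) : Set G)).relIndex
        (normalizer ((P : Subgroup G) : Set G)) = 1 := by
      rcases Nat.lt_or_ge 0 ((centralizer ((P : Subgroup G) : Set G)).relIndex
        (normalizer ((P : Subgroup G) : Set G))) with h0 | h0
      · omega
      · rw [Nat.le_zero.mp h0, zero_mul] at hmul
        omega
    have h2 := Subgroup.relIndex_eq_one.mp h1
    exact not_normalizer_le_centralizer P (by rw [hP]; exact hp.one_lt) (by rw [hP]; exact hlt) h2
  · have := Subgroup.card_dvd_of_le (le_centralizer_of_prime P hP)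
    rwa [hP] at this

/-- a simple group with more than one Sylow `p`-subgroup acts faithfully on them. -/
theorem eq_one_of_smul_sylow [IsSimpleGroup G] {p : ℕ} [Fact p.Prime]
    (hsyl : 1 < Nat.card (Sylow p G)) (g : G) (hg : ∀ Q : Sylow p G, g • Q = Q) : g = 1 := by
  have hker : g ∈ (MulAction.toPermHom G (Sylow p G)).ker := by
    rw [MonoidHom.mem_ker]
    exact Equiv.ext fun Q => hg Q
  rcases (MonoidHom.normal_ker (MulAction.toPermHom G (Sylow p G))).eq_bot_or_eq_top with h | h
  · rw [h] at hker
    exact Subgroup.mem_bot.mp hker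
  · exfalso
    haveI : Nontrivial (Sylow p G) := Finite.one_lt_card_iff_nontrivial.mp hsyl
    obtain ⟨P, Q, hPQ⟩ := exists_pair_ne (Sylow p G)
    obtain ⟨x, hx⟩ := MulAction.exists_smul_eq G P Q
    have hx' : x ∈ (MulAction.toPermHom G (Sylow p G)).ker := by rw [h]; exact Subgroup.mem_top x
    rw [MonoidHom.mem_ker] at hx'
    have : x • P = P := by
      have := congrArg (fun σ : Equiv.Perm (Sylow p G) => σ P) hx'
      simpa using this
    exact hPQ (this.symm.trans hx)

/-- if `|P| = p` and there are exactly `p + 1` Sylow `p`-subgroups in the simple group `G`,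
then `P` is self-centralizing. -/
theorem card_centralizer_of_num [IsSimpleGroup G] {p : ℕ} [Fact p.Prime] (P : Sylow p G)
    (hP : Nat.card (P : Subgroup G) = p) (hn : Nat.card (Sylow p G) = p + 1) :
    Nat.card (centralizer ((P : Subgroup G) : Set G)) = p := by
  classical
  have hp : p.Prime := Fact.out
  have hPC : (P : Subgroup G) ≤ centralizer ((P : Subgroup G) : Set G) :=
    le_centralizer_of_prime P hP
  by_contra hne
  have hpC : p ∣ Nat.card (centralizer ((P : Subgroup G) : Set G)) := by
    have := Subgroup.card_dvd_of_le hPC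
    rwa [hP] at this
  obtain ⟨k, hk⟩ := hpC
  have hk1 : k ≠ 1 := fun h => hne (by rw [hk, h, mul_one])
  obtain ⟨r, hr, hrk⟩ := Nat.exists_prime_and_dvd hk1
  have hrp : r ≠ p := by
    intro hrp'
    rw [hrp'] at hrk
    have h0 : p * p ∣ Nat.card (centralizer ((P : Subgroup G) : Set G)) := by
      rw [hk]; exact Nat.mul_dvd_mul_left p hrk
    have h1 : p * p ∣ Nat.card G := h0.trans (Subgroup.card_subgroup_dvd_card _)
    have h2 := (P : Subgroup G).card_mul_index
    rw [hP] at h2
    rw [← h2] at h1
    exact P.not_dvd_index ((Nat.mul_dvd_mul_iff_left hp.pos).mp h1)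
  haveI : Fact r.Prime := ⟨hr⟩
  obtain ⟨y0, hy0⟩ := exists_prime_orderOf_dvd_card'
    (G := centralizer ((P : Subgroup G) : Set G)) r (hk ▸ Dvd.dvd.mul_left hrk p)
  have hyo : orderOf (y0 : G) = r := by rw [Subgroup.orderOf_coe]; exact hy0
  have hyC : (y0 : G) ∈ centralizer ((P : Subgroup G) : Set G) := y0.2
  generalize (y0 : G) = y at hyo hyC
  -- a generator of `P`
  obtain ⟨x0, hx0⟩ := exists_prime_orderOf_dvd_card' (G := (P : Subgroup G)) p (by rw [hP])
  have hxo : orderOf (x0 : G) = p := by rw [Subgroup.orderOf_coe]; exact hx0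
  have hxP : (x0 : G) ∈ (P : Subgroup G) := x0.2
  generalize (x0 : G) = x at hxo hxP
  have hx1 : x ≠ 1 := by
    rintro rfl
    rw [orderOf_one] at hxo
    exact hp.one_lt.ne hxo
  have hyN : y ∈ normalizer ((P : Subgroup G) : Set G) := Subgroup.centralizer_le_normalizer _ hyC
  have hyP : y • P = P := Sylow.smul_eq_iff_mem_normalizer.mpr hyN
  have hcomm : ∀ i : ℕ, y * x ^ i = x ^ i * y := by
    intro i
    exact (Subgroup.mem_centralizer_iff.mp hyC (x ^ i) (pow_mem hxP i)).symm
  have hz : IsPGroup r (zpowers y) :=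
    IsPGroup.of_card (n := 1) (by rw [Nat.card_zpowers, hyo, pow_one])
  have hmod := hz.card_modEq_card_fixedPoints (Sylow p G)
  have hcardQ : ∀ Q : Sylow p G, Nat.card (Q : Subgroup G) = p := by
    intro Q
    rw [Sylow.card_eq_multiplicity, ← Sylow.card_eq_multiplicity P, hP]
  by_cases hex : ∃ Q : Sylow p G, Q ≠ P ∧ y • Q = Q
  · obtain ⟨Q, hQP, hyQ⟩ := hex
    have hfix : ∀ i : ℕ, x ^ i • Q ≠ P := by
      intro i h
      apply hQP
      have h1 : (x ^ i)⁻¹ • P = P := Sylow.smul_eq_iff_mem_normalizer.mpr
        (Subgroup.le_normalizer (inv_mem (pow_mem hxP i)))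
      have h0 : Q = (x ^ i)⁻¹ • P := by rw [← h, inv_smul_smul]
      rw [h0, h1]
    have hinj : Function.Injective (fun i : Fin p => x ^ (i : ℕ) • Q) := by
      intro i j hij
      simp only at hij
      have h1 : ((x ^ (j : ℕ))⁻¹ * x ^ (i : ℕ)) • Q = Q := by
        rw [mul_smul, hij, inv_smul_smul]
      set w := (x ^ (j : ℕ))⁻¹ * x ^ (i : ℕ) with hw
      have hwP : w ∈ (P : Subgroup G) := mul_mem (inv_mem (pow_mem hxP _)) (pow_mem hxP _)
      have hwN : w ∈ normalizer ((Q : Subgroup G) : Set G) :=
        Sylow.smul_eq_iff_mem_normalizer.mp h1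
      have hw1 : w = 1 := by
        by_contra hw1
        have h2 : w ∈ (P : Subgroup G) ⊓ (Q : Subgroup G) := by
          have e := P.isPGroup'.inf_normalizer_sylow Q
          rw [← e]
          exact ⟨hwP, hwN⟩
        have h3 : zpowers w ≤ (Q : Subgroup G) := (Subgroup.zpowers_le).mpr h2.2
        rw [zpowers_eq_sylow P hP hwP hw1] at h3
        have h4 : (P : Subgroup G) = (Q : Subgroup G) :=
          Subgroup.eq_of_le_of_card_ge h3 (by rw [hP, hcardQ Q])
        exact hQP (Sylow.ext h4).symm
      have h5 : x ^ (i : ℕ) = x ^ (j : ℕ) := by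
        rw [hw, inv_mul_eq_one] at hw1
        exact hw1.symm
      have h6 := pow_eq_pow_iff_modEq.mp h5
      rw [hxo] at h6
      exact Fin.ext (Nat.ModEq.eq_of_lt_of_lt h6 i.2 j.2)
    have hall : ∀ R : Sylow p G, y • R = R := by
      intro R
      haveI : Fintype (Sylow p G) := Fintype.ofFinite _
      have hcard : (insert P (Finset.univ.image (fun i : Fin p => x ^ (i : ℕ) • Q))).card =
          Fintype.card (Sylow p G) := by
        rw [Finset.card_insert_of_notMem, Finset.card_image_of_injective _ hinj,
          Finset.card_univ, Fintype.card_fin, ← Nat.card_eq_fintype_card, hn]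
        intro hmem
        obtain ⟨i, -, hi⟩ := Finset.mem_image.mp hmem
        exact hfix i hi
      have huniv := (Finset.card_eq_iff_eq_univ _).mp hcard
      have hR : R ∈ insert P (Finset.univ.image (fun i : Fin p => x ^ (i : ℕ) • Q)) := by
        rw [huniv]; exact Finset.mem_univ R
      rcases Finset.mem_insert.mp hR with rfl | hR
      · exact hyP
      · obtain ⟨i, -, rfl⟩ := Finset.mem_image.mp hR
        rw [← mul_smul, hcomm, mul_smul, hyQ]
    have hy1 : y = 1 := eq_one_of_smul_sylow (by rw [hn]; have := hp.pos; omega) y hall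
    rw [hy1, orderOf_one] at hyo
    exact hr.one_lt.ne hyo
  · have hcard1 : Nat.card (MulAction.fixedPoints (zpowers y) (Sylow p G)) = 1 := by
      rw [Nat.card_eq_one_iff_unique]
      refine ⟨⟨fun Q1 Q2 => ?_⟩, ⟨⟨P, fun g => ?_⟩⟩⟩
      · have key : ∀ Q : MulAction.fixedPoints (zpowers y) (Sylow p G), (Q : Sylow p G) = P := by
          intro Q
          by_contra hQ
          apply hex
          refine ⟨Q, hQ, ?_⟩
          exact Q.2 ⟨y, Subgroup.mem_zpowers y⟩
        exact Subtype.ext ((key Q1).trans (key Q2).symm)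
      · obtain ⟨g, hg⟩ := g
        obtain ⟨i, rfl⟩ := Subgroup.mem_zpowers_iff.mp hg
        change y ^ i • P = P
        exact Sylow.smul_eq_iff_mem_normalizer.mpr (zpow_mem hyN i)
    rw [hn, hcard1] at hmod
    have h1 : r ∣ p := by
      have := (Nat.modEq_iff_dvd' (by omega : 1 ≤ p + 1)).mp hmod.symm
      simpa using this
    exact hrp ((Nat.prime_dvd_prime_iff_eq hr hp).mp h1)

/-- a non-abelian simple group with a subgroup of index `n ≥ 5` embeds in `A_n`; if the
embedding has index `k > 1` then `A_n` embeds in `S_k`. -/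
theorem alt_index [IsSimpleGroup G] (hna : ∃ a b : G, a * b ≠ b * a) (H : Subgroup G)
    (h5 : 5 ≤ H.index) :
    ∃ k, k * Nat.card G * 2 = H.index.factorial ∧ (k = 1 ∨ k * Nat.card G ∣ k.factorial) := by
  classical
  have hH : H ≠ ⊤ := by
    rintro rfl
    simp at h5
  haveI : Fintype (G ⧸ H) := Fintype.ofFinite _
  have hX : Fintype.card (G ⧸ H) = H.index := by
    rw [Subgroup.index_eq_card, Nat.card_eq_fintype_card]
  have hinj := toPermHom_injective H hH
  have hsign : ∀ g, Equiv.Perm.sign (MulAction.toPermHom G (G ⧸ H) g) = 1 := fun g =>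
    hom_trivial hna (Equiv.Perm.sign.comp (MulAction.toPermHom G (G ⧸ H))) g
  let ψ : G →* alternatingGroup (G ⧸ H) :=
    (MulAction.toPermHom G (G ⧸ H)).codRestrict (alternatingGroup (G ⧸ H))
      (fun g => Equiv.Perm.mem_alternatingGroup.mpr (hsign g))
  have hψ : Function.Injective ψ :=
    (MonoidHom.injective_codRestrict _ _ _).mpr hinj
  have hK : Nat.card ψ.range = Nat.card G :=
    (Nat.card_congr (MonoidHom.ofInjective hψ).toEquiv).symm
  have hA : Nat.card (alternatingGroup (G ⧸ H)) * 2 = H.index.factorial := by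
    haveI : Nontrivial (G ⧸ H) := Fintype.one_lt_card_iff_nontrivial.mp (by rw [hX]; omega)
    have := two_mul_nat_card_alternatingGroup (α := G ⧸ H)
    rw [Nat.card_perm, Nat.card_eq_fintype_card (α := G ⧸ H), hX] at this
    omega
  haveI : IsSimpleGroup (alternatingGroup (G ⧸ H)) :=
    alternatingGroup.isSimpleGroup (by rw [Nat.card_eq_fintype_card, hX]; exact h5)
  refine ⟨ψ.range.index, ?_, ?_⟩
  · rw [← hK, mul_comm ψ.range.index, Subgroup.card_mul_index]
    exact hA
  · by_cases hKt : ψ.range = ⊤
    · left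
      rw [hKt, Subgroup.index_top]
    · right
      have := card_dvd_factorial_index ψ.range hKt
      rwa [← hK, mul_comm, Subgroup.card_mul_index]

end OrdTools

end Cfsg.Agent.Helper9
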