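import Mathlib
import Cfsg.Prelude.Def_Characters
import Cfsg.Prelude.Def_Blocks
import Cfsg.Agent.Helper75.LatDefs

/-!
# Piece P2 (EIGENDUAL) of helper75's CALL S4441 (helper9)

`lat_eigen_dual`: for `ℤ`-lattices `T ≤ M ≤ ℤ^N` with `p M ≤ T`, `M` `p`-saturated, `[M : T] = p ^ a`
and an integer matrix `Z` acting on `M`, `T` with `Z ^ (p - 1) = 1` on `M / T`, there are
`Z`-eigenvectors `y j` modulo `T` and dual rows `ℓ j` vanishing on `T` modulo `p`.
-/

set_option autoImplicit false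

open Cfsg Matrix

universe u

namespace Cfsg.Agent.Helper9

/-- The eigenvectors of an endomorphism `z` with `z ^ (p - 1) = 1` of an `𝔽_p`-space span. -/
theorem led_eig_span {p : ℕ} [Fact p.Prime] {U : Type*} [AddCommGroup U] [Module (ZMod p) U]
    (z : U →ₗ[ZMod p] U) (hz : ∀ u, (z ^ (p - 1)) u = u) :
    Submodule.span (ZMod p) {u : U | ∃ c : ZMod p, z u = c • u} = ⊤ := by
  classical
  rw [eq_top_iff]
  intro u _
  set w : (ZMod p)ˣ → U :=
    fun c => ∑ i ∈ Finset.range (p - 1), ((c : ZMod p) ^ i) • (z ^ i) u with hw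
  have h1 : ∀ c : (ZMod p)ˣ, w c ∈ {u : U | ∃ c : ZMod p, z u = c • u} := by
    intro c
    refine ⟨((c⁻¹ : (ZMod p)ˣ) : ZMod p), ?_⟩
    have key : (c : ZMod p) • z (w c) = w c := by
      simp only [hw, map_sum, map_smul, Finset.smul_sum, smul_smul]
      have hstep : ∀ i : ℕ, ((c : ZMod p) * (c : ZMod p) ^ i) • z ((z ^ i) u)
          = ((c : ZMod p) ^ (i + 1)) • (z ^ (i + 1)) u := by
        intro i
        rw [pow_succ' (c : ZMod p), pow_succ' z, Module.End.mul_apply]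
      simp only [hstep]
      have e1 := Finset.sum_range_succ' (fun i : ℕ => ((c : ZMod p) ^ i) • (z ^ i) u) (p - 1)
      have e2 := Finset.sum_range_succ (fun i : ℕ => ((c : ZMod p) ^ i) • (z ^ i) u) (p - 1)
      have e3 : ((c : ZMod p) ^ (p - 1)) • (z ^ (p - 1)) u = ((c : ZMod p) ^ 0) • (z ^ 0) u := by
        rw [hz u, ZMod.pow_card_sub_one_eq_one (Units.ne_zero c), pow_zero, pow_zero,
          Module.End.one_apply]
      rw [e2, e3] at e1
      exact (add_right_cancel e1).symm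
    calc z (w c) = ((c⁻¹ : (ZMod p)ˣ) : ZMod p) • ((c : ZMod p) • z (w c)) := by
          rw [smul_smul, Units.inv_mul, one_smul]
      _ = ((c⁻¹ : (ZMod p)ˣ) : ZMod p) • w c := by rw [key]
  have h2 : ∑ c : (ZMod p)ˣ, w c = -u := by
    simp only [hw]
    rw [Finset.sum_comm]
    simp only [← Finset.sum_smul]
    have hp1 : 0 < p - 1 := Nat.sub_pos_of_lt (Fact.out : p.Prime).one_lt
    rw [Finset.sum_eq_single 0]
    · rw [FiniteField.sum_pow_units (ZMod p) 0]
      simp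
    · intro i hi hi0
      rw [FiniteField.sum_pow_units (ZMod p) i, ZMod.card, if_neg, zero_smul]
      intro hdvd
      exact absurd (Nat.le_of_dvd (Nat.pos_of_ne_zero hi0) hdvd)
        (not_le.mpr (Finset.mem_range.mp hi))
    · intro h0
      exact absurd (Finset.mem_range.mpr hp1) h0
  have h3 : u = -∑ c : (ZMod p)ˣ, w c := by rw [h2, neg_neg]
  rw [h3]
  exact Submodule.neg_mem _ (Submodule.sum_mem _ fun c _ => Submodule.subset_span (h1 c))

/-- A basis of eigenvectors for an endomorphism `z` with `z ^ (p - 1) = 1` of a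
finite-dimensional `𝔽_p`-space. -/
theorem led_eig_basis {p : ℕ} [Fact p.Prime] {U : Type*} [AddCommGroup U] [Module (ZMod p) U]
    [Module.Finite (ZMod p) U]
    (z : U →ₗ[ZMod p] U) (hz : ∀ u, (z ^ (p - 1)) u = u) :
    ∃ (b : Module.Basis (Fin (Module.finrank (ZMod p) U)) (ZMod p) U)
      (c : Fin (Module.finrank (ZMod p) U) → ZMod p), ∀ j, z (b j) = c j • b j := by
  classical
  obtain ⟨s, hsS, hspan, hli⟩ :=
    exists_linearIndependent (ZMod p) {u : U | ∃ c : ZMod p, z u = c • u}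
  rw [led_eig_span z hz] at hspan
  let b0 : Module.Basis s (ZMod p) U :=
    Module.Basis.mk hli (by rw [Subtype.range_coe]; exact hspan.ge)
  let _ : Fintype s := FiniteDimensional.fintypeBasisIndex b0
  have hcard : Fintype.card s = Module.finrank (ZMod p) U :=
    (Module.finrank_eq_card_basis b0).symm
  let e : s ≃ Fin (Module.finrank (ZMod p) U) := Fintype.equivFinOfCardEq hcard
  refine ⟨b0.reindex e, fun j => (hsS (e.symm j).2).choose, fun j => ?_⟩
  rw [Module.Basis.reindex_apply, Module.Basis.mk_apply]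
  exact (hsS (e.symm j).2).choose_spec

/-- Reduction modulo `p` of integer vectors. -/
noncomputable def ledRed (p N : ℕ) : (Fin N → ℤ) →+ (Fin N → ZMod p) :=
  (Int.castAddHom (ZMod p)).compLeft (Fin N)

theorem ledRed_apply (p N : ℕ) (v : Fin N → ℤ) (k : Fin N) :
    ledRed p N v k = (v k : ZMod p) := rfl

/-- The image of a lattice modulo `p`, as an `𝔽_p`-subspace. -/
noncomputable def ledSub (p : ℕ) [Fact p.Prime] {N : ℕ} (T : Submodule ℤ (Fin N → ℤ)) :
    Submodule (ZMod p) (Fin N → ZMod p) where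
  carrier := {w | ∃ t ∈ T, ledRed p N t = w}
  add_mem' := by
    rintro _ _ ⟨t1, h1, rfl⟩ ⟨t2, h2, rfl⟩
    exact ⟨t1 + t2, T.add_mem h1 h2, map_add _ _ _⟩
  zero_mem' := ⟨0, T.zero_mem, map_zero _⟩
  smul_mem' := by
    rintro c _ ⟨t, ht, rfl⟩
    refine ⟨((c.val : ℕ) : ℤ) • t, T.smul_mem _ ht, ?_⟩
    funext k
    rw [ledRed_apply, Pi.smul_apply, Pi.smul_apply, ledRed_apply, smul_eq_mul, smul_eq_mul]
    push_cast
    rw [ZMod.natCast_zmod_val]

theorem mem_ledSub (p : ℕ) [Fact p.Prime] {N : ℕ} (T : Submodule ℤ (Fin N → ℤ))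
    (w : Fin N → ZMod p) : w ∈ ledSub p T ↔ ∃ t ∈ T, ledRed p N t = w := Iff.rfl

theorem ledRed_mulVec (p N : ℕ) (Z : Matrix (Fin N) (Fin N) ℤ) (v : Fin N → ℤ) :
    ledRed p N (Z *ᵥ v) = (Z.map (Int.cast : ℤ → ZMod p)) *ᵥ ledRed p N v := by
  funext k
  simp [ledRed_apply, Matrix.mulVec, dotProduct]

theorem ledRed_smul (p N : ℕ) (n : ℤ) (v : Fin N → ℤ) :
    ledRed p N (n • v) = (n : ZMod p) • ledRed p N v := by
  funext k
  simp [ledRed_apply]

theorem led_mem_of_red {N : ℕ} (p : ℕ) [Fact p.Prime] (M T : Submodule ℤ (Fin N → ℤ))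
    (hTM : T ≤ M) (hpM : ∀ v ∈ M, (p : ℤ) • v ∈ T)
    (hsat : ∀ v : Fin N → ℤ, (p : ℤ) • v ∈ M → v ∈ M) (v : Fin N → ℤ) (hv : v ∈ M)
    (h : ledRed p N v ∈ ledSub p T) : v ∈ T := by
  obtain ⟨t, ht, hte⟩ := h
  have hdvd : ∀ k, (p : ℤ) ∣ v k - t k := by
    intro k
    have h1 := congrFun hte k
    simp only [ledRed_apply] at h1
    rw [← ZMod.intCast_zmod_eq_zero_iff_dvd]
    push_cast
    rw [h1, sub_self]
  let w : Fin N → ℤ := fun k => (v k - t k) / p
  have hw : (p : ℤ) • w = v - t := by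
    funext k
    simp only [Pi.smul_apply, smul_eq_mul, Pi.sub_apply, w]
    exact Int.mul_ediv_cancel' (hdvd k)
  have h1 : (p : ℤ) • w ∈ M := by rw [hw]; exact M.sub_mem hv (hTM ht)
  have h2 := hpM w (hsat w h1)
  have h3 : v = t + (p : ℤ) • w := by rw [hw]; abel
  rw [h3]; exact T.add_mem ht h2

theorem lat_eigen_dual {N : ℕ} (p : ℕ) [Fact p.Prime] (M T : Submodule ℤ (Fin N → ℤ))
    (hTM : T ≤ M) (hpM : ∀ v ∈ M, (p : ℤ) • v ∈ T)
    (hsat : ∀ v : Fin N → ℤ, (p : ℤ) • v ∈ M → v ∈ M)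
    (Z : Matrix (Fin N) (Fin N) ℤ) (hZM : ∀ v ∈ M, Z *ᵥ v ∈ M) (hZT : ∀ v ∈ T, Z *ᵥ v ∈ T)
    (hZ : ∀ v ∈ M, (Z ^ (p - 1)) *ᵥ v - v ∈ T)
    (a : ℕ) (ha : T.toAddSubgroup.relIndex M.toAddSubgroup = p ^ a) :
    ∃ (y : Fin a → (Fin N → ℤ)) (lam : Fin a → ℤ) (ℓ : Fin a → (Fin N → ℤ)),
      (∀ j, y j ∈ M) ∧ (∀ j, Z *ᵥ y j - lam j • y j ∈ T) ∧
      (∀ j, ∀ s ∈ T, (p : ℤ) ∣ ℓ j ⬝ᵥ s) ∧
      (∀ i j, ℓ i ⬝ᵥ y j ≡ (if i = j then 1 else 0) [ZMOD p]) := by
  classical
  let M' : Submodule (ZMod p) (Fin N → ZMod p) := ledSub p M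
  let T' : Submodule (ZMod p) (Fin N → ZMod p) := ledSub p T
  let Z' : Matrix (Fin N) (Fin N) (ZMod p) := Z.map (Int.cast : ℤ → ZMod p)
  have hZM' : ∀ w ∈ M', Z'.mulVecLin w ∈ M' := by
    rintro _ ⟨m, hm, rfl⟩
    exact ⟨Z *ᵥ m, hZM m hm, ledRed_mulVec p N Z m⟩
  have hZT' : ∀ w ∈ T', Z'.mulVecLin w ∈ T' := by
    rintro _ ⟨m, hm, rfl⟩
    exact ⟨Z *ᵥ m, hZT m hm, ledRed_mulVec p N Z m⟩
  let T'' : Submodule (ZMod p) M' := T'.comap M'.subtype
  let zM : M' →ₗ[ZMod p] M' := Z'.mulVecLin.restrict hZM'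
  have hzT : T'' ≤ T''.comap zM := by
    intro m hm
    exact hZT' _ hm
  let zU : (M' ⧸ T'') →ₗ[ZMod p] (M' ⧸ T'') := T''.mapQ T'' zM hzT
  -- the quotient map from `M`
  let q : (m : Fin N → ℤ) → m ∈ M → (M' ⧸ T'') :=
    fun m hm => Submodule.Quotient.mk ⟨ledRed p N m, m, hm, rfl⟩
  have hq_surj : ∀ u : M' ⧸ T'', ∃ (m : Fin N → ℤ) (hm : m ∈ M), q m hm = u := by
    intro u
    obtain ⟨⟨w, m, hm, rfl⟩, rfl⟩ := Submodule.Quotient.mk_surjective T'' u
    exact ⟨m, hm, rfl⟩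
  have hq_eq : ∀ (m m' : Fin N → ℤ) (hm : m ∈ M) (hm' : m' ∈ M),
      q m hm = q m' hm' ↔ m - m' ∈ T := by
    intro m m' hm hm'
    have h1 : q m hm = q m' hm' ↔ ledRed p N (m - m') ∈ T' := by
      simp only [q]
      rw [Submodule.Quotient.eq]
      simp only [T'', Submodule.mem_comap, Submodule.subtype_apply, map_sub]
    rw [h1]
    constructor
    · intro h
      exact led_mem_of_red p M T hTM hpM hsat _ (M.sub_mem hm hm') h
    · intro h
      exact ⟨_, h, rfl⟩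
  have hq_zU : ∀ (m : Fin N → ℤ) (hm : m ∈ M), zU (q m hm) = q (Z *ᵥ m) (hZM m hm) := by
    intro m hm
    simp only [q, zU]
    rw [Submodule.mapQ_apply]
    congr 1
    exact Subtype.ext (ledRed_mulVec p N Z m).symm
  have hZkM : ∀ (k : ℕ) (m : Fin N → ℤ), m ∈ M → (Z ^ k) *ᵥ m ∈ M := by
    intro k
    induction k with
    | zero => intro m hm; simpa using hm
    | succ k ih =>
      intro m hm
      rw [pow_succ', ← Matrix.mulVec_mulVec]
      exact hZM _ (ih m hm)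
  have hpowU : ∀ (k : ℕ) (m : Fin N → ℤ) (hm : m ∈ M),
      (zU ^ k) (q m hm) = q ((Z ^ k) *ᵥ m) (hZkM k m hm) := by
    intro k
    induction k with
    | zero =>
      intro m hm
      simp only [pow_zero, Module.End.one_apply, Matrix.one_mulVec]
    | succ k ih =>
      intro m hm
      rw [pow_succ', Module.End.mul_apply, ih m hm, hq_zU _ (hZkM k m hm)]
      simp only [pow_succ' Z, Matrix.mulVec_mulVec]
  have hz : ∀ u, (zU ^ (p - 1)) u = u := by
    intro u
    obtain ⟨m, hm, rfl⟩ := hq_surj u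
    rw [hpowU _ m hm, hq_eq _ _ (hZkM _ m hm) hm]
    exact hZ m hm
  -- cardinality
  have hcard : Nat.card (M' ⧸ T'') = p ^ a := by
    let f : M.toAddSubgroup →+ (M' ⧸ T'') :=
      AddMonoidHom.mk' (fun m => q m.1 m.2) (by
        intro m1 m2
        simp only [q]
        rw [← Submodule.Quotient.mk_add]
        congr 1
        exact Subtype.ext (map_add _ _ _))
    have hf_surj : Function.Surjective f := by
      intro u
      obtain ⟨m, hm, rfl⟩ := hq_surj u
      exact ⟨⟨m, hm⟩, rfl⟩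
    have hker : f.ker = T.toAddSubgroup.addSubgroupOf M.toAddSubgroup := by
      ext m
      rw [AddMonoidHom.mem_ker, AddSubgroup.mem_addSubgroupOf]
      have h0 : f m = q m.1 m.2 := rfl
      have h00 : (0 : M' ⧸ T'') = q 0 M.zero_mem := by
        simp only [q]
        rw [← Submodule.Quotient.mk_zero]
        congr 1
        exact Subtype.ext (map_zero _).symm
      rw [h0, h00, hq_eq _ _ m.2 M.zero_mem, sub_zero]
      rfl
    rw [← ha, AddSubgroup.relIndex, ← hker, ← AddMonoidHom.comap_bot,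
      AddSubgroup.index_comap_of_surjective _ hf_surj, AddSubgroup.index_bot]
  have hfin : Module.finrank (ZMod p) (M' ⧸ T'') = a := by
    have h1 := Module.natCard_eq_pow_finrank (K := ZMod p) (V := M' ⧸ T'')
    rw [hcard, Nat.card_zmod] at h1
    exact (Nat.pow_right_injective (Fact.out : p.Prime).two_le h1).symm
  obtain ⟨b, c, hbc⟩ := led_eig_basis zU hz
  subst hfin
  choose ym hym hyq using fun j => hq_surj (b j)
  -- the dual part
  let ι : (M' ⧸ T'') →ₗ[ZMod p] ((Fin N → ZMod p) ⧸ T') :=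
    T''.mapQ T' M'.subtype le_rfl
  have hι : LinearMap.ker ι = ⊥ := by
    rw [LinearMap.ker_eq_bot']
    intro u hu
    obtain ⟨m, rfl⟩ := Submodule.Quotient.mk_surjective T'' u
    rw [Submodule.mapQ_apply, Submodule.Quotient.mk_eq_zero] at hu
    rw [Submodule.Quotient.mk_eq_zero]
    exact hu
  obtain ⟨r, hr⟩ := ι.exists_leftInverse_of_injective hι
  let φ : Fin (Module.finrank (ZMod p) (M' ⧸ T'')) → ((Fin N → ZMod p) →ₗ[ZMod p] ZMod p) :=
    fun j => (b.coord j) ∘ₗ r ∘ₗ T'.mkQ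
  let ℓ : Fin (Module.finrank (ZMod p) (M' ⧸ T'')) → (Fin N → ℤ) :=
    fun j k => (((φ j) (fun k' => if k = k' then 1 else 0)).val : ℤ)
  have hℓ : ∀ j (v : Fin N → ℤ), ((ℓ j ⬝ᵥ v : ℤ) : ZMod p) = φ j (ledRed p N v) := by
    intro j v
    rw [LinearMap.pi_apply_eq_sum_univ (φ j) (ledRed p N v)]
    simp only [dotProduct, ℓ]
    push_cast
    refine Finset.sum_congr rfl fun k _ => ?_
    rw [ZMod.natCast_zmod_val, ledRed_apply, smul_eq_mul, mul_comm]
  have hφT : ∀ j, ∀ w ∈ T', φ j w = 0 := by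
    intro j w hw
    simp only [φ, LinearMap.comp_apply, Submodule.mkQ_apply]
    rw [(Submodule.Quotient.mk_eq_zero T').mpr hw, map_zero, map_zero]
  have hφy : ∀ i j, φ i (ledRed p N (ym j)) = if i = j then 1 else 0 := by
    intro i j
    have h1 : T'.mkQ (ledRed p N (ym j)) = ι (b j) := by
      rw [← hyq j]
      simp only [q, ι]
      rw [Submodule.mapQ_apply]
      rfl
    have h2 : r (ι (b j)) = b j := by
      have := congrArg (fun g => g (b j)) hr
      simpa using this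
    simp only [φ, LinearMap.comp_apply]
    rw [h1, h2, Module.Basis.coord_apply, Module.Basis.repr_self, Finsupp.single_apply]
    by_cases hij : i = j
    · rw [if_pos hij, if_pos hij.symm]
    · rw [if_neg hij, if_neg (fun h => hij h.symm)]
  refine ⟨ym, fun j => ((c j).val : ℤ), ℓ, hym, ?_, ?_, ?_⟩
  · intro j
    have h1 := hbc j
    rw [← hyq j, hq_zU _ (hym j)] at h1
    have h2 : c j • q (ym j) (hym j)
        = q ((((c j).val : ℕ) : ℤ) • ym j) (M.smul_mem _ (hym j)) := by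
      simp only [q]
      rw [← Submodule.Quotient.mk_smul]
      congr 1
      refine Subtype.ext ?_
      simp only [Submodule.coe_smul]
      rw [ledRed_smul]
      push_cast
      rw [ZMod.natCast_zmod_val]
    rw [h2, hq_eq _ _ (hZM _ (hym j)) (M.smul_mem _ (hym j))] at h1
    exact h1
  · intro j s hs
    rw [← ZMod.intCast_zmod_eq_zero_iff_dvd, hℓ]
    exact hφT j _ ⟨s, hs, rfl⟩
  · intro i j
    rw [← ZMod.intCast_eq_intCast_iff, hℓ, hφy]
    by_cases hij : i = j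
    · simp [hij]
    · simp [hij]


end Cfsg.Agent.Helper9
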