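import Mathlib
import Cfsg.Agent.Helper9.OrdTools

set_option autoImplicit false
set_option linter.style.haveILetI false
set_option linter.unusedSectionVars false

/-!
# Counting tools for simple groups of a given order (helper9)

* `OrdTools.card_ti_ge`: a family of `n` subgroups of order `k` with pairwise trivial
  intersections contains at least `n (k - 1)` nonidentity elements;
* `OrdTools.card_or`, `OrdTools.card_mono`, `OrdTools.card_ne_one_eq`: bookkeeping;
* `OrdTools.card_psing_ge`: if the Sylow `p`-subgroups have order `p` and centralizers of order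
  `c`, at least `n_p (c - c / p)` elements have order divisible by `p`;
* `OrdTools.invol_centralizer_of_count`: if the centralizer of every involution is a `2`-group
  and there are at most `|G : T|` nontrivial `2`-elements (`T` a Sylow `2`-subgroup), then `T`
  is elementary abelian and the centralizer of every involution is an elementary abelian
  `2`-group (the hypotheses of the recognition theorem for `PSL(2, 2^n)`).
-/

namespace Cfsg.Agent.Helper9

namespace OrdTools

open Subgroup

variable {G : Type*} [Group G] [Finite G]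

/-- a family of subgroups of order `k` with pairwise trivial intersections contains at least
`|ι| (k - 1)` nonidentity elements. -/
theorem card_ti_ge {ι : Type*} [Finite ι] (H : ι → Subgroup G) (k : ℕ)
    (hk : ∀ i, Nat.card (H i) = k)
    (hTI : ∀ i j, i ≠ j → ∀ g, g ∈ H i → g ∈ H j → g = 1) :
    Nat.card ι * (k - 1) ≤ Nat.card {g : G // g ≠ 1 ∧ ∃ i, g ∈ H i} := by
  classical
  haveI : Fintype ι := Fintype.ofFinite ι
  have h1 : Nat.card (Σ i, {g : H i // g ≠ 1}) = Nat.card ι * (k - 1) := by
    rw [Nat.card_sigma]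
    have : ∀ i, Nat.card {g : H i // g ≠ 1} = k - 1 := by
      intro i
      haveI : Fintype (H i) := Fintype.ofFinite _
      rw [Nat.card_eq_fintype_card, Fintype.card_subtype_compl, Fintype.card_subtype_eq,
        ← Nat.card_eq_fintype_card, hk]
    simp [this, Nat.card_eq_fintype_card]
  rw [← h1]
  refine Nat.card_le_card_of_injective
    (fun s => ⟨(s.2.1 : G), fun h => s.2.2 (Subtype.ext h), ⟨s.1, s.2.1.2⟩⟩) ?_
  rintro ⟨i, ⟨⟨g, hg⟩, hg1⟩⟩ ⟨j, ⟨⟨g', hg'⟩, hg1'⟩⟩ h
  simp only [Subtype.mk.injEq] at h
  subst h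
  by_cases hij : i = j
  · subst hij; rfl
  · exact absurd (hTI i j hij g hg hg') (fun h => hg1 (Subtype.ext h))

/-- cardinality of a disjoint union of two subtypes. -/
theorem card_or {α : Type*} [Finite α] (A B : α → Prop) (h : ∀ g, A g → B g → False) :
    Nat.card {g // A g ∨ B g} = Nat.card {g // A g} + Nat.card {g // B g} := by
  classical
  haveI : Fintype α := Fintype.ofFinite α
  rw [Nat.card_eq_fintype_card, Nat.card_eq_fintype_card, Nat.card_eq_fintype_card,
    Fintype.card_subtype, Fintype.card_subtype, Fintype.card_subtype, Finset.filter_or,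
    Finset.card_union_of_disjoint]
  rw [Finset.disjoint_filter]
  intro x _ hA hB
  exact h x hA hB

/-- monotonicity of the cardinality of subtypes. -/
theorem card_mono {α : Type*} [Finite α] (A B : α → Prop) (h : ∀ g, A g → B g) :
    Nat.card {g // A g} ≤ Nat.card {g // B g} :=
  Nat.card_le_card_of_injective (fun s => ⟨s.1, h _ s.2⟩)
    (fun a b hab => Subtype.ext (by simpa using congrArg Subtype.val hab))

/-- the number of nonidentity elements. -/
theorem card_ne_one_eq : Nat.card {g : G // g ≠ 1} = Nat.card G - 1 := by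
  classical
  haveI : Fintype G := Fintype.ofFinite G
  rw [Nat.card_eq_fintype_card, Fintype.card_subtype_compl, Fintype.card_subtype_eq,
    Nat.card_eq_fintype_card]

/-- if the Sylow `p`-subgroups have order `p` and their centralizers have order `c`, then at
least `n_p (c - c / p)` elements of `G` have order divisible by `p`. -/
theorem card_psing_ge {p : ℕ} [Fact p.Prime]
    (hS : ∀ P : Sylow p G, Nat.card (P : Subgroup G) = p) (c : ℕ)
    (hc : ∀ P : Sylow p G, Nat.card (centralizer ((P : Subgroup G) : Set G)) = c) :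
    Nat.card (Sylow p G) * (c - c / p) ≤ Nat.card {g : G // p ∣ orderOf g} := by
  classical
  have hp : p.Prime := Fact.out
  haveI : Fintype (Sylow p G) := Fintype.ofFinite _
  have hper : ∀ P : Sylow p G, c - c / p ≤
      Nat.card {g : centralizer ((P : Subgroup G) : Set G) // p ∣ orderOf (g : G)} := by
    intro P
    have hPC : (P : Subgroup G) ≤ centralizer ((P : Subgroup G) : Set G) :=
      le_centralizer_of_prime P (hS P)
    have hinj : Function.Injective
        (fun s : {g : centralizer ((P : Subgroup G) : Set G) // ¬ p ∣ orderOf (g : G)} ×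
          (P : Subgroup G) => ((s.1.1 : G) * (s.2 : G))) := by
      rintro ⟨⟨⟨h, hh⟩, hho⟩, ⟨a, ha⟩⟩ ⟨⟨⟨h', hh'⟩, hho'⟩, ⟨a', ha'⟩⟩ heq
      simp only at heq hho hho'
      have hb : a * a'⁻¹ ∈ (P : Subgroup G) := mul_mem ha (inv_mem ha')
      have hh'eq : h' = h * (a * a'⁻¹) := by
        rw [← mul_assoc, heq, mul_inv_cancel_right]
      have hcomm : Commute h (a * a'⁻¹) := (Subgroup.mem_centralizer_iff.mp hh _ hb).symm
      have hpow : (a * a'⁻¹) ^ (orderOf h * orderOf h') = 1 := by
        have h1 : h' ^ (orderOf h * orderOf h') = 1 := by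
          rw [mul_comm, pow_mul, pow_orderOf_eq_one, one_pow]
        have h2 : h ^ (orderOf h * orderOf h') = 1 := by
          rw [pow_mul, pow_orderOf_eq_one, one_pow]
        have h3 : (h * (a * a'⁻¹)) ^ (orderOf h * orderOf h') =
            h ^ (orderOf h * orderOf h') * (a * a'⁻¹) ^ (orderOf h * orderOf h') :=
          hcomm.mul_pow _
        rw [← hh'eq, h1, h2, one_mul] at h3
        exact h3.symm
      have hbo : orderOf (a * a'⁻¹) ∣ p := by
        have := orderOf_dvd_natCard (⟨a * a'⁻¹, hb⟩ : (P : Subgroup G))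
        rwa [hS P, ← Subgroup.orderOf_coe] at this
      have hb1 : a * a'⁻¹ = 1 := by
        rcases (Nat.dvd_prime hp).mp hbo with h1 | h1
        · exact orderOf_eq_one_iff.mp h1
        · exfalso
          have h2 : p ∣ orderOf h * orderOf h' := h1 ▸ orderOf_dvd_of_pow_eq_one hpow
          rcases (Nat.Prime.dvd_mul hp).mp h2 with h3 | h3
          · exact hho h3
          · exact hho' h3
      have haa : a = a' := mul_inv_eq_one.mp hb1
      subst haa
      have hhh : h = h' := mul_right_cancel heq
      subst hhh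
      rfl
    have h1 : Nat.card {g : centralizer ((P : Subgroup G) : Set G) // ¬ p ∣ orderOf (g : G)} * p
        ≤ c := by
      have := Nat.card_le_card_of_injective
        (fun s : {g : centralizer ((P : Subgroup G) : Set G) // ¬ p ∣ orderOf (g : G)} ×
          (P : Subgroup G) => (⟨(s.1.1 : G) * (s.2 : G), mul_mem s.1.1.2 (hPC s.2.2)⟩ :
            centralizer ((P : Subgroup G) : Set G)))
        (fun a b hab => hinj (congrArg Subtype.val hab))
      rwa [Nat.card_prod, hS P, hc P] at this
    have h2 : Nat.card {g : centralizer ((P : Subgroup G) : Set G) // p ∣ orderOf (g : G)} +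
        Nat.card {g : centralizer ((P : Subgroup G) : Set G) // ¬ p ∣ orderOf (g : G)} = c := by
      rw [← hc P]
      haveI : Fintype (centralizer ((P : Subgroup G) : Set G)) := Fintype.ofFinite _
      rw [Nat.card_eq_fintype_card, Nat.card_eq_fintype_card, Nat.card_eq_fintype_card,
        Fintype.card_subtype_compl]
      have := Fintype.card_subtype_le
        (fun g : centralizer ((P : Subgroup G) : Set G) => p ∣ orderOf (g : G))
      omega
    have h3 : Nat.card {g : centralizer ((P : Subgroup G) : Set G) // ¬ p ∣ orderOf (g : G)}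
        ≤ c / p := (Nat.le_div_iff_mul_le hp.pos).mpr h1
    omega
  have h1 : Nat.card (Σ P : Sylow p G,
      {g : centralizer ((P : Subgroup G) : Set G) // p ∣ orderOf (g : G)}) ≤
      Nat.card {g : G // p ∣ orderOf g} := by
    refine Nat.card_le_card_of_injective (fun s => ⟨(s.2.1 : G), s.2.2⟩) ?_
    rintro ⟨P, ⟨⟨g, hg⟩, hgo⟩⟩ ⟨P', ⟨⟨g', hg'⟩, hgo'⟩⟩ h
    simp only [Subtype.mk.injEq] at h
    subst h
    have key : ∀ Q : Sylow p G, g ∈ centralizer ((Q : Subgroup G) : Set G) →
        zpowers (g ^ (orderOf g / p)) = (Q : Subgroup G) := by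
      intro Q hQ
      have hwo : orderOf (g ^ (orderOf g / p)) = p :=
        orderOf_pow_orderOf_div (orderOf_pos g).ne' hgo
      have hwC : g ^ (orderOf g / p) ∈ centralizer ((Q : Subgroup G) : Set G) := pow_mem hQ _
      have hz : IsPGroup p (zpowers (g ^ (orderOf g / p))) :=
        IsPGroup.of_card (n := 1) (by rw [Nat.card_zpowers, hwo, pow_one])
      have hwQ : g ^ (orderOf g / p) ∈ (Q : Subgroup G) := by
        have e := hz.inf_normalizer_sylow Q
        have : g ^ (orderOf g / p) ∈ zpowers (g ^ (orderOf g / p)) ⊓ (Q : Subgroup G) := by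
          rw [← e]
          exact ⟨Subgroup.mem_zpowers _, Subgroup.centralizer_le_normalizer _ hwC⟩
        exact this.2
      have hw1 : g ^ (orderOf g / p) ≠ 1 := by
        intro h
        rw [h, orderOf_one] at hwo
        exact hp.one_lt.ne hwo
      exact zpowers_eq_sylow Q (hS Q) hwQ hw1
    have hPP' : P = P' := Sylow.ext ((key P hg).symm.trans (key P' hg'))
    subst hPP'
    rfl
  refine le_trans ?_ h1
  rw [Nat.card_sigma]
  calc Nat.card (Sylow p G) * (c - c / p) = ∑ _P : Sylow p G, (c - c / p) := by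
        simp [Nat.card_eq_fintype_card]
    _ ≤ _ := Finset.sum_le_sum (fun P _ => hper P)

/-- **Recognition of the `PSL(2, 2^n)` configuration by counting.** Let `T` be a nontrivial
Sylow `2`-subgroup of `G`. If the centralizer of every involution is a `2`-group and `G` has at
most `|G : T|` nontrivial `2`-elements, then `T` has exponent two and the centralizer of every
involution is an elementary abelian `2`-group. -/
theorem invol_centralizer_of_count (T : Sylow 2 G) (hT : 1 < Nat.card (T : Subgroup G))
    (hcount : Nat.card {g : G // g ≠ 1 ∧ g ^ Nat.card (T : Subgroup G) = 1} ≤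
      (T : Subgroup G).index)
    (hC : ∀ z : G, orderOf z = 2 → ∀ c ∈ centralizer ({z} : Set G),
      c ^ Nat.card (T : Subgroup G) = 1) :
    (∀ c ∈ (T : Subgroup G), c ^ 2 = 1) ∧
    ∀ t : G, orderOf t = 2 → IsMulCommutative (centralizer ({t} : Set G)) ∧
      ∀ c ∈ centralizer ({t} : Set G), c ^ 2 = 1 := by
  classical
  haveI : Fact (Nat.Prime 2) := ⟨Nat.prime_two⟩
  obtain ⟨a, ha⟩ := (T.isPGroup').exists_card_eq
  haveI : Nontrivial (T : Subgroup G) := Finite.one_lt_card_iff_nontrivial.mp hT
  have hcn : Nontrivial (Subgroup.center (T : Subgroup G)) := (T.isPGroup').center_nontrivial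
  have h2c : 2 ∣ Nat.card (Subgroup.center (T : Subgroup G)) := by
    have hpc : IsPGroup 2 (Subgroup.center (T : Subgroup G)) := (T.isPGroup').to_subgroup _
    rcases hpc.card_eq_or_dvd with h | h
    · exact absurd h (Finite.one_lt_card_iff_nontrivial.mpr hcn).ne'
    · exact h
  obtain ⟨z0, hz0⟩ :=
    exists_prime_orderOf_dvd_card' (G := Subgroup.center (T : Subgroup G)) 2 h2c
  have hzo : orderOf (((z0 : (T : Subgroup G)) : G)) = 2 := by
    rw [Subgroup.orderOf_coe, Subgroup.orderOf_coe]; exact hz0
  have hzT : ((z0 : (T : Subgroup G)) : G) ∈ (T : Subgroup G) := (z0 : (T : Subgroup G)).2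
  have hzc : ∀ t ∈ (T : Subgroup G), t * ((z0 : (T : Subgroup G)) : G) =
      ((z0 : (T : Subgroup G)) : G) * t := by
    intro t ht
    have := Subgroup.mem_center_iff.mp z0.2 ⟨t, ht⟩
    exact congrArg Subtype.val this
  generalize ((z0 : (T : Subgroup G)) : G) = z at hzo hzT hzc
  have hTC : (T : Subgroup G) ≤ centralizer ({z} : Set G) := by
    intro t ht
    rw [Subgroup.mem_centralizer_iff]
    intro w hw
    rw [Set.mem_singleton_iff] at hw
    subst hw
    exact (hzc t ht).symm
  have hCp : IsPGroup 2 (centralizer ({z} : Set G)) := by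
    intro c
    refine ⟨a, ?_⟩
    apply Subtype.ext
    rw [Subgroup.coe_pow, ← ha]
    exact hC z hzo c c.2
  have hCT : centralizer ({z} : Set G) = (T : Subgroup G) := T.is_maximal' hCp hTC
  have hz1 : z ≠ 1 := by
    intro h
    rw [h, orderOf_one] at hzo
    norm_num at hzo
  have h2q : 2 ∣ Nat.card (T : Subgroup G) := by
    rw [ha]
    refine dvd_pow_self 2 ?_
    rintro rfl
    rw [ha] at hT
    simp at hT
  have hzq : z ^ Nat.card (T : Subgroup G) = 1 := by
    obtain ⟨m, hm⟩ := h2q
    rw [hm, pow_mul, ← hzo, pow_orderOf_eq_one, one_pow]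
  have hconj1 : ∀ g : G, g * z * g⁻¹ ≠ 1 ∧ (g * z * g⁻¹) ^ Nat.card (T : Subgroup G) = 1 := by
    intro g
    refine ⟨fun h => hz1 ?_, by rw [conj_pow, hzq]; group⟩
    have : z = g⁻¹ * (g * z * g⁻¹) * g := by group
    rw [this, h]; group
  let f : G ⧸ (T : Subgroup G) → {g : G // g ≠ 1 ∧ g ^ Nat.card (T : Subgroup G) = 1} :=
    fun x => Quotient.liftOn' x (fun g => ⟨g * z * g⁻¹, hconj1 g⟩) (by
      intro u v huv
      rw [QuotientGroup.leftRel_apply] at huv
      apply Subtype.ext
      have h1 : (u⁻¹ * v) * z = z * (u⁻¹ * v) := hzc _ huv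
      calc u * z * u⁻¹ = u * (z * (u⁻¹ * v)) * v⁻¹ := by group
        _ = u * ((u⁻¹ * v) * z) * v⁻¹ := by rw [h1]
        _ = v * z * v⁻¹ := by group)
  have hfinj : Function.Injective f := by
    intro x y
    induction x using Quotient.inductionOn' with
    | _ u =>
    induction y using Quotient.inductionOn' with
    | _ v =>
    intro huv
    have h1 : u * z * u⁻¹ = v * z * v⁻¹ := congrArg Subtype.val huv
    apply Quotient.sound'
    rw [QuotientGroup.leftRel_apply, ← hCT, Subgroup.mem_centralizer_iff]
    intro w hw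
    rw [Set.mem_singleton_iff] at hw
    subst hw
    calc w * (u⁻¹ * v) = u⁻¹ * (u * w * u⁻¹) * v := by group
      _ = u⁻¹ * (v * w * v⁻¹) * v := by rw [h1]
      _ = u⁻¹ * v * w := by group
  have hbij := hfinj.bijective_of_nat_card_le (by rw [← Subgroup.index_eq_card]; exact hcount)
  have hsurj : ∀ g : G, g ≠ 1 → g ^ Nat.card (T : Subgroup G) = 1 → ∃ u : G, g = u * z * u⁻¹ := by
    intro g hg1 hgq
    obtain ⟨x, hx⟩ := hbij.2 ⟨g, hg1, hgq⟩
    induction x using Quotient.inductionOn' with
    | _ u => exact ⟨u, (congrArg Subtype.val hx).symm⟩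
  have hsq : ∀ g : G, g ^ Nat.card (T : Subgroup G) = 1 → g ^ 2 = 1 := by
    intro g hgq
    by_cases hg1 : g = 1
    · rw [hg1, one_pow]
    · obtain ⟨u, rfl⟩ := hsurj g hg1 hgq
      rw [conj_pow, ← hzo, pow_orderOf_eq_one]; group
  have hTsq : ∀ c ∈ (T : Subgroup G), c ^ 2 = 1 := fun c hc => hsq c (by
    have := pow_card_eq_one' (G := (T : Subgroup G)) (x := ⟨c, hc⟩)
    exact congrArg Subtype.val this)
  refine ⟨hTsq, fun t ht => ?_⟩
  have ht1 : t ≠ 1 := by
    intro h
    rw [h, orderOf_one] at ht
    norm_num at ht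
  have htq : t ^ Nat.card (T : Subgroup G) = 1 := by
    obtain ⟨m, hm⟩ := h2q
    rw [hm, pow_mul, ← ht, pow_orderOf_eq_one, one_pow]
  obtain ⟨u, rfl⟩ := hsurj t ht1 htq
  have hcs : ∀ c ∈ centralizer ({u * z * u⁻¹} : Set G), c ^ 2 = 1 := by
    intro c hc
    have h1 : u⁻¹ * c * u ∈ (T : Subgroup G) := by
      rw [← hCT, Subgroup.mem_centralizer_iff]
      intro w hw
      rw [Set.mem_singleton_iff] at hw
      subst hw
      have h2 := Subgroup.mem_centralizer_iff.mp hc (u * w * u⁻¹) rfl
      calc w * (u⁻¹ * c * u) = u⁻¹ * ((u * w * u⁻¹) * c) * u := by group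
        _ = u⁻¹ * (c * (u * w * u⁻¹)) * u := by rw [h2]
        _ = u⁻¹ * c * u * w := by group
    have h3 := hTsq _ h1
    have h4 : c ^ 2 = u * (u⁻¹ * c * u) ^ 2 * u⁻¹ := by rw [sq, sq]; group
    rw [h4, h3]; group
  refine ⟨⟨⟨fun x y => ?_⟩⟩, hcs⟩
  apply Subtype.ext
  have hinv : ∀ c : G, c ^ 2 = 1 → c⁻¹ = c := fun c hc =>
    inv_eq_of_mul_eq_one_left (by rw [← sq]; exact hc)
  have hx := hinv _ (hcs x x.2)
  have hy := hinv _ (hcs y y.2)
  have hxy := hinv _ (hcs ((x : G) * y) (mul_mem x.2 y.2))
  change (x : G) * y = y * x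
  calc (x : G) * y = ((x : G) * y)⁻¹ := hxy.symm
    _ = (y : G)⁻¹ * (x : G)⁻¹ := mul_inv_rev _ _
    _ = y * x := by rw [hx, hy]

end OrdTools

end Cfsg.Agent.Helper9
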