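import Mathlib
import Cfsg.Agent.Helper9.OrdCount

set_option autoImplicit false
set_option linter.style.haveILetI false
set_option linter.unusedSectionVars false

/-!
# More tools for simple groups of a given order (helper9)

* `OrdTools.card_centralizer_sylow_eq`: centralizers of Sylow `p`-subgroups have the same order;
* `OrdTools.zpowers_pow_eq_of_mem_centralizer`: if the Sylow `p`-subgroups have order `p`, and
  `g` centralizes the Sylow subgroup `Q` and has order divisible by `p`, then the `p`-part of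
  `g` generates `Q`;
* `OrdTools.sylow_of_card`: a subgroup of order `p` is a Sylow subgroup when these have order `p`.
-/

namespace Cfsg.Agent.Helper9

namespace OrdTools

open Subgroup

variable {G : Type*} [Group G] [Finite G]

/-- centralizers of Sylow `p`-subgroups have the same order. -/
theorem card_centralizer_sylow_eq {p : ℕ} [Fact p.Prime] (P Q : Sylow p G) :
    Nat.card (centralizer ((P : Subgroup G) : Set G)) =
      Nat.card (centralizer ((Q : Subgroup G) : Set G)) := by
  obtain ⟨g, rfl⟩ := MulAction.exists_smul_eq G P Q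
  have hmem : ∀ q : G, q ∈ ((g • P : Sylow p G) : Subgroup G) ↔ g⁻¹ * q * g ∈ (P : Subgroup G) := by
    intro q
    rw [Sylow.coe_subgroup_smul, Subgroup.mem_pointwise_smul_iff_inv_smul_mem]
    simp [MulAut.smul_def]
  refine Nat.card_congr ⟨fun c => ⟨g * c.1 * g⁻¹, ?_⟩, fun c => ⟨g⁻¹ * c.1 * g, ?_⟩, ?_, ?_⟩
  · rw [Subgroup.mem_centralizer_iff]
    intro q hq
    have hq' := (hmem q).mp hq
    have := Subgroup.mem_centralizer_iff.mp c.2 _ hq'
    calc q * (g * c.1 * g⁻¹) = g * ((g⁻¹ * q * g) * c.1) * g⁻¹ := by group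
      _ = g * (c.1 * (g⁻¹ * q * g)) * g⁻¹ := by rw [this]
      _ = g * c.1 * g⁻¹ * q := by group
  · rw [Subgroup.mem_centralizer_iff]
    intro a ha
    have ha' : g * a * g⁻¹ ∈ ((g • P : Sylow p G) : Subgroup G) :=
      (hmem _).mpr (by
        have e : g⁻¹ * (g * a * g⁻¹) * g = a := by group
        rw [e]; exact ha)
    have := Subgroup.mem_centralizer_iff.mp c.2 _ ha'
    calc a * (g⁻¹ * c.1 * g) = g⁻¹ * ((g * a * g⁻¹) * c.1) * g := by group
      _ = g⁻¹ * (c.1 * (g * a * g⁻¹)) * g := by rw [this]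
      _ = g⁻¹ * c.1 * g * a := by group
  · intro c
    apply Subtype.ext
    simp [mul_assoc]
  · intro c
    apply Subtype.ext
    simp [mul_assoc]

/-- if the Sylow `p`-subgroups have order `p`, and `g` centralizes the Sylow subgroup `Q` and
has order divisible by `p`, then the `p`-part of `g` generates `Q`. -/
theorem zpowers_pow_eq_of_mem_centralizer {p : ℕ} [Fact p.Prime]
    (hS : ∀ P : Sylow p G, Nat.card (P : Subgroup G) = p) (Q : Sylow p G) {g : G}
    (hQ : g ∈ centralizer ((Q : Subgroup G) : Set G)) (hgo : p ∣ orderOf g) :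
    zpowers (g ^ (orderOf g / p)) = (Q : Subgroup G) := by
  have hp : p.Prime := Fact.out
  have hwo : orderOf (g ^ (orderOf g / p)) = p :=
    orderOf_pow_orderOf_div (orderOf_pos g).ne' hgo
  have hwC : g ^ (orderOf g / p) ∈ centralizer ((Q : Subgroup G) : Set G) := pow_mem hQ _
  have hz : IsPGroup p (zpowers (g ^ (orderOf g / p))) :=
    IsPGroup.of_card (n := 1) (by rw [Nat.card_zpowers, hwo, pow_one])
  have hwQ : g ^ (orderOf g / p) ∈ (Q : Subgroup G) := by
    have e := hz.inf_normalizer_sylow Q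
    have : g ^ (orderOf g / p) ∈ zpowers (g ^ (orderOf g / p)) ⊓ (Q : Subgroup G) := by
      rw [← e]
      exact ⟨Subgroup.mem_zpowers _, Subgroup.centralizer_le_normalizer _ hwC⟩
    exact this.2
  have hw1 : g ^ (orderOf g / p) ≠ 1 := by
    intro h
    rw [h, orderOf_one] at hwo
    exact hp.one_lt.ne hwo
  exact zpowers_eq_sylow Q (hS Q) hwQ hw1

/-- a subgroup of order `p` is a Sylow `p`-subgroup if these have order `p`. -/
theorem sylow_of_card {p : ℕ} [Fact p.Prime]
    (hS : ∀ P : Sylow p G, Nat.card (P : Subgroup G) = p) (H : Subgroup G)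
    (hH : Nat.card H = p) : ∃ P : Sylow p G, (P : Subgroup G) = H := by
  have hz : IsPGroup p H := IsPGroup.of_card (n := 1) (by rw [hH, pow_one])
  obtain ⟨P, hP⟩ := hz.exists_le_sylow
  exact ⟨P, (Subgroup.eq_of_le_of_card_ge hP (by rw [hH, hS P])).symm⟩

/-- a `p`-element of the normalizer of a Sylow `p`-subgroup lies in it. -/
theorem mem_sylow_of_mem_normalizer {p : ℕ} [Fact p.Prime] (Q : Sylow p G) {H : Subgroup G}
    (hH : IsPGroup p H) (hle : H ≤ normalizer ((Q : Subgroup G) : Set G)) :
    H ≤ (Q : Subgroup G) := by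
  intro x hx
  have e := hH.inf_normalizer_sylow Q
  have : x ∈ H ⊓ (Q : Subgroup G) := by
    rw [← e]
    exact ⟨hx, hle hx⟩
  exact this.2

end OrdTools

end Cfsg.Agent.Helper9
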