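import Mathlib
import Cfsg.Agent.Helper9.CLT2

set_option autoImplicit false

namespace Cfsg.Agent.Helper9

open Subgroup
open scoped commutatorElement

universe u

theorem index_prime_of_coatom_aux (n : ℕ) : ∀ (G : Type u) [Group G] [Finite G],
    Nat.card G = n → IsSupersolvable G → ∀ M : Subgroup G, IsCoatom M → M.index.Prime := by
  induction n using Nat.strong_induction_on with
  | _ n ih =>
    intro G _ _ hn hG M hM
    have hnt : Nontrivial G := by
      by_contra hnt
      rw [not_nontrivial_iff_subsingleton] at hnt
      exact hM.1 (Subsingleton.elim _ _)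
    obtain ⟨N, hNn, hNp⟩ := exists_normal_prime hG
    by_cases hNM : N ≤ M
    · have hQlt : Nat.card (G ⧸ N) < n := by
        rw [← hn, Subgroup.card_eq_card_quotient_mul_card_subgroup N]
        exact lt_mul_of_one_lt_right Nat.card_pos hNp.one_lt
      have hco : IsCoatom (M.map (QuotientGroup.mk' N)) := by
        constructor
        · intro h
          apply hM.1
          have := congrArg (Subgroup.comap (QuotientGroup.mk' N)) h
          rwa [QuotientGroup.comap_map_mk', sup_of_le_right hNM, Subgroup.comap_top] at this
        · intro B hB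
          have h1 : M < B.comap (QuotientGroup.mk' N) := by
            have := (Subgroup.comap_lt_comap_of_surjective (QuotientGroup.mk'_surjective N)).mpr hB
            rwa [QuotientGroup.comap_map_mk', sup_of_le_right hNM] at this
          have h2 := hM.2 _ h1
          apply Subgroup.comap_injective (QuotientGroup.mk'_surjective N)
          rw [h2, Subgroup.comap_top]
      have := ih _ hQlt (G ⧸ N) rfl (ss_quotient N hG) _ hco
      rwa [Subgroup.index_map_eq M (QuotientGroup.mk'_surjective N)
        (by rw [QuotientGroup.ker_mk']; exact hNM)] at this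
    · have hinf : N ⊓ M = ⊥ := (prime_card_le_or_inf_eq_bot N M hNp).resolve_left hNM
      have hsup : N ⊔ M = ⊤ :=
        hM.2 _ (lt_of_le_of_ne le_sup_right (fun h => hNM (h ▸ le_sup_left)))
      have hc : IsComplement' N M :=
        isComplement'_of_disjoint_and_mul_eq_univ (disjoint_iff.mpr hinf)
          (by rw [← Subgroup.normal_mul, hsup]; rfl)
      rw [hc.index_eq_card]; exact hNp

/-- In a finite supersolvable group every maximal subgroup has prime index. -/
theorem index_prime_of_coatom {G : Type u} [Group G] [Finite G] (hG : IsSupersolvable G)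
    (M : Subgroup G) (hM : IsCoatom M) : M.index.Prime :=
  index_prime_of_coatom_aux _ G rfl hG M hM

theorem commutatorElement_conj_zpowers {Q : Type*} [Group Q] (z : Q) (hn : (zpowers z).Normal)
    (a b : Q) : ⁅a, b⁆ * z * ⁅a, b⁆⁻¹ = z := by
  let f : Q →* MulAut (zpowers z) := MulAut.conjNormal
  let e := IsCyclic.mulAutMulEquiv (zpowers z)
  have h1 : f ⁅a, b⁆ = 1 := by
    apply e.injective
    rw [map_commutatorElement, map_commutatorElement, map_one]
    exact commutatorElement_eq_one_iff_commute.mpr (Commute.all _ _)
  have h2 : ((f ⁅a, b⁆ ⟨z, Subgroup.mem_zpowers z⟩ : zpowers z) : Q) = z := by rw [h1]; rfl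
  rw [MulAut.conjNormal_apply] at h2
  exact h2

theorem commutator_mem_of_step {G : Type*} [Group G] (K : Subgroup G) [K.Normal] (g : G)
    (hn : (K ⊔ zpowers g).Normal) (x : G) (hx : x ∈ K ⊔ zpowers g) (y : G)
    (hy : y ∈ commutator G) : ⁅x, y⁆ ∈ K := by
  have hmap : (K ⊔ zpowers g).map (QuotientGroup.mk' K) = zpowers (QuotientGroup.mk' K g) := by
    rw [Subgroup.map_sup, MonoidHom.map_zpowers, QuotientGroup.map_mk'_self, bot_sup_eq]
  have hzn : (zpowers (QuotientGroup.mk' K g)).Normal :=
    hmap ▸ hn.map (QuotientGroup.mk' K) (QuotientGroup.mk'_surjective K)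
  have hπx : QuotientGroup.mk' K x ∈ zpowers (QuotientGroup.mk' K g) :=
    hmap ▸ Subgroup.mem_map_of_mem (QuotientGroup.mk' K) hx
  have hle : commutator G ≤
      (Subgroup.centralizer {QuotientGroup.mk' K g}).comap (QuotientGroup.mk' K) := by
    rw [_root_.commutator_def, Subgroup.commutator_le]
    intro a _ b _
    rw [Subgroup.mem_comap, map_commutatorElement, Subgroup.mem_centralizer_iff]
    intro h hh
    rw [Set.mem_singleton_iff] at hh
    subst hh
    have := commutatorElement_conj_zpowers (QuotientGroup.mk' K g) hzn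
      (QuotientGroup.mk' K a) (QuotientGroup.mk' K b)
    rw [mul_inv_eq_iff_eq_mul] at this
    exact this.symm
  have hy' := hle hy
  rw [Subgroup.mem_comap, Subgroup.mem_centralizer_iff] at hy'
  have hy'' := hy' _ (Set.mem_singleton _)
  obtain ⟨i, hi⟩ := Subgroup.mem_zpowers_iff.mp hπx
  have hcomm : Commute (QuotientGroup.mk' K x) (QuotientGroup.mk' K y) := by
    rw [← hi]
    exact Commute.zpow_left hy'' i
  have : QuotientGroup.mk' K ⁅x, y⁆ = 1 := by
    rw [map_commutatorElement]
    exact commutatorElement_eq_one_iff_commute.mpr hcomm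
  rwa [← QuotientGroup.ker_mk' K, MonoidHom.mem_ker]

theorem SS.le_upperCentralSeries {G : Type*} [Group G] {K : Subgroup G} (h : SS K) :
    ∃ m, K.subgroupOf (commutator G) ≤ Subgroup.upperCentralSeries (commutator G) m := by
  induction h with
  | bot => exact ⟨0, by rw [Subgroup.bot_subgroupOf]; exact bot_le⟩
  | step K g hK hn ih =>
    obtain ⟨m, hm⟩ := ih
    refine ⟨m + 1, ?_⟩
    intro x hx
    rw [Subgroup.mem_upperCentralSeries_succ_iff]
    intro y
    apply hm
    rw [Subgroup.mem_subgroupOf] at hx ⊢
    have := hK.normal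
    exact commutator_mem_of_step K g hn x hx y y.2

/-- The commutator subgroup of a supersolvable group is nilpotent. -/
theorem commutator_nilpotent_of_ss {G : Type*} [Group G] (hG : IsSupersolvable G) :
    Group.IsNilpotent (commutator G) := by
  obtain ⟨m, hm⟩ := (isSupersolvable_iff.mp hG).le_upperCentralSeries
  rw [Subgroup.top_subgroupOf] at hm
  exact ⟨⟨m, top_le_iff.mp hm⟩⟩

end Cfsg.Agent.Helper9
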