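import Cfsg.Agent.Helper82.ExcFinal
import Cfsg.Agent.Helper78.Counting
import Cfsg.Agent.Helper9.OrdTools

set_option autoImplicit false
set_option linter.style.haveILetI false
set_option maxHeartbeats 1000000

/-!
# Brauer's exceptional characters for a Sylow subgroup of prime order (helper9)

Arithmetic consequences of `Helper82.excFinal_data` (the theory behind S4709) for a simple group
`G` with a Sylow `p`-subgroup `P` of order `p` such that `m = |N(P) : C(P)|` satisfies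
`m + 1 < p`:

* `BrauerP.brauer_list`: the principal `p`-block consists of the principal character, a list of
  further non-exceptional characters with degrees `f ≡ a (mod p)` (`a ≠ 0` an integer) and
  `r = (p - 1) / m` exceptional characters of degree `D ≡ d + δ m (mod p)`, with
  `(d - δ)² + (r - 1) d² + 1 + ∑ a² = m + 1`, `(r d - δ) D + 1 + ∑ a f = 0`,
  `1 + ∑ f² + r D² ≤ |G|`, all degrees dividing `|G|` and at least `2`.
-/

namespace Cfsg.Agent.Helper9

namespace BrauerP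

open Subgroup Cfsg

universe u

variable {G : Type u} [Group G]

/-- the relative index of the centralizer in the normalizer from the orders. -/
theorem relIndex_of_card [Finite G] (H : Subgroup G) {e : ℕ}
    (h : Nat.card (normalizer (H : Set G)) = e * Nat.card (centralizer (H : Set G))) :
    (centralizer (H : Set G)).relIndex (normalizer (H : Set G)) = e := by
  have hle : centralizer (H : Set G) ≤ normalizer (H : Set G) := Subgroup.centralizer_le_normalizer _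
  have h1 := Subgroup.card_mul_index ((centralizer (H : Set G)).subgroupOf (normalizer (H : Set G)))
  rw [Nat.card_congr (Subgroup.subgroupOfEquivOfLe hle).toEquiv, h] at h1
  have hpos : 0 < Nat.card (centralizer (H : Set G)) := Nat.card_pos
  have h2 : ((centralizer (H : Set G)).subgroupOf (normalizer (H : Set G))).index = e := by
    rw [mul_comm e] at h1
    exact Nat.eq_of_mul_eq_mul_left hpos h1
  exact h2

/-- a nontrivial irreducible character of a nonabelian simple group has degree at least `2`. -/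
theorem two_le_charDegree [Finite G] [IsSimpleGroup G] (hna : ∃ a b : G, a * b ≠ b * a)
    (χ : IrrCharacter G) (hχ : χ ≠ Helper81.trivIrr G) : 2 ≤ charDegree (χ : G → ℂ) := by
  have hpos := Helper81.charDegree_pos χ
  by_contra hlt
  have h1 : charDegree (χ : G → ℂ) = 1 := by omega
  have h1' : (χ : G → ℂ) 1 = 1 := by
    rw [Helper81.irr_one_eq_charDegree, h1]; simp
  obtain ⟨f, hf⟩ := Helper79.isCharacter_linear (Helper79.isCharacter_of_irr χ.2) h1'
  apply hχ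
  apply Subtype.ext
  funext g
  rw [hf g, OrdTools.hom_trivial hna f g]
  rfl

/-- **Brauer's theorem on groups whose order is exactly divisible by `p`**, arithmetic form, for
a nonabelian simple group. -/
theorem brauer_list [Finite G] [IsSimpleGroup G] (hna : ∃ a b : G, a * b ≠ b * a)
    {p : ℕ} [Fact p.Prime] (P : Sylow p G) (hP : Nat.card (P : Subgroup G) = p) (m : ℕ)
    (hm2 : m + 1 < p)
    (hCN : (centralizer ((P : Subgroup G) : Set G)).relIndex
      (normalizer ((P : Subgroup G) : Set G)) = m) :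
    ∃ (l : List (ℤ × ℕ)) (D : ℕ) (d δ : ℤ),
      (δ = 1 ∨ δ = -1) ∧ ((p - 1) / m) * m = p - 1 ∧
      (∀ x ∈ l, x.1 ≠ 0 ∧ 2 ≤ x.2 ∧ x.2 ∣ Nat.card G ∧ (x.2 : ℤ) ≡ x.1 [ZMOD p]) ∧
      2 ≤ D ∧ D ∣ Nat.card G ∧ (D : ℤ) ≡ d + δ * m [ZMOD p] ∧
      (d - δ) ^ 2 + ((((p - 1) / m : ℕ) : ℤ) - 1) * d ^ 2 + 1 + (l.map (fun x => x.1 ^ 2)).sum
        = (m : ℤ) + 1 ∧
      ((((p - 1) / m : ℕ) : ℤ) * d - δ) * D + 1 + (l.map (fun x => x.1 * (x.2 : ℤ))).sum = 0 ∧
      1 + (l.map (fun x => x.2 ^ 2)).sum + ((p - 1) / m) * D ^ 2 ≤ Nat.card G := by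
  classical
  have hp : p.Prime := Fact.out
  haveI : Fintype G := Fintype.ofFinite G
  haveI : Fintype (P : Subgroup G) := Fintype.ofFinite _
  haveI : Finite ((P : Subgroup G) →* ℂˣ) := Helper80.finite_hom
  haveI : Fintype ((P : Subgroup G) →* ℂˣ) := Fintype.ofFinite _
  haveI : Fintype (IrrCharacter G) := Fintype.ofFinite _
  haveI : Fintype (normalizer ((P : Subgroup G) : Set G)) := Fintype.ofFinite _
  obtain ⟨M, hM⟩ := Helper78.exists_isPModular p hp
  haveI hMp : M.IsPrime := Helper81.isPrime_of_isPModular hM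
  have hcent := OrdTools.le_centralizer_of_prime P hP
  have hcommA : ∀ x y : (P : Subgroup G), x * y = y * x := fun x y =>
    Subtype.ext (Subgroup.mem_centralizer_iff.mp (hcent y.2) x x.2)
  have hab : IsMulCommutative (P : Subgroup G) := ⟨⟨hcommA⟩⟩
  have hfrob : ∀ y : G, y ∈ (P : Subgroup G) → y ≠ 1 → centralizer ({y} : Set G)
      ⊓ normalizer ((P : Subgroup G) : Set G) = centralizer ((P : Subgroup G) : Set G) := by
    intro y hy hy1
    rw [OrdTools.centralizer_singleton_eq (OrdTools.zpowers_eq_sylow P hP hy hy1)]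
    exact inf_eq_left.mpr (Subgroup.centralizer_le_normalizer _)
  have hcardP : Fintype.card (P : Subgroup G) = p := by
    rw [← Nat.card_eq_fintype_card, hP]
  obtain ⟨T, δ, d, a, ζ, hT, hδ, hζT, hζR, had, hval, hnorm, hpreg, hagree, hζtriv, -⟩ :=
    Helper82.excFinal_data hM P hab hfrob m (by rw [hP]; exact hm2) hCN
  -- nontrivial linear characters of `P`
  have hcardHom : Fintype.card ((P : Subgroup G) →* ℂˣ) = p := by
    rw [← Nat.card_eq_fintype_card, Helper82.excHom_card hcommA, hcardP]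
  obtain ⟨ψ₀, hψ₀⟩ := Fintype.exists_ne_of_one_lt_card (by rw [hcardHom]; exact hp.one_lt)
    (1 : (P : Subgroup G) →* ℂˣ)
  have hreg1 : ¬ p ∣ orderOf (1 : G) := by
    rw [orderOf_one]
    exact hp.one_lt.ne' ∘ Nat.dvd_one.mp
  -- the fibres of `ζ`
  have hSf : ∀ ψ₁ : (P : Subgroup G) →* ℂˣ, ψ₁ ≠ 1 →
      (Finset.univ.filter (fun ψ : (P : Subgroup G) →* ℂˣ => ψ ≠ 1 ∧ ζ ψ = ζ ψ₁)).card = m := by
    intro ψ₁ h₁
    have := Helper82.excMain_card_orbit P hfrob m hCN ψ₁ h₁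
    rw [← this]
    congr 1
    ext ψ
    simp only [Finset.mem_filter, Finset.mem_univ, true_and, Finset.mem_image]
    constructor
    · rintro ⟨hψ, he⟩
      exact (hζR ψ₁ ψ h₁ hψ).mp he.symm
    · intro hrel
      have hψ : ψ ≠ 1 := Helper82.excRel_ne_one h₁ hrel
      exact ⟨hψ, ((hζR ψ₁ ψ h₁ hψ).mpr hrel).symm⟩
  -- the exceptional characters
  set L : Finset ((P : Subgroup G) →* ℂˣ) := Finset.univ.filter (fun ψ => ψ ≠ 1) with hL
  set Y : Finset (IrrCharacter G) := L.image ζ with hY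
  have hLcard : L.card = p - 1 := by
    rw [hL, Finset.filter_ne' Finset.univ (1 : (P : Subgroup G) →* ℂˣ),
      Finset.card_erase_of_mem (Finset.mem_univ _), Finset.card_univ, hcardHom]
  have hYcard : Y.card * m = p - 1 := by
    have h1 := Finset.card_eq_sum_card_image ζ L
    have h2 : ∀ η ∈ L.image ζ, (L.filter (fun ψ => ζ ψ = η)).card = m := by
      intro η hη
      obtain ⟨ψ₁, hψ₁, rfl⟩ := Finset.mem_image.mp hη
      have h₁ : ψ₁ ≠ 1 := (Finset.mem_filter.mp hψ₁).2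
      rw [← hSf ψ₁ h₁, hL, Finset.filter_filter]
    rw [Finset.sum_congr rfl h2, Finset.sum_const, smul_eq_mul, hLcard] at h1
    exact h1.symm
  have hr : (p - 1) / m = Y.card := by
    have hm0 : 0 < m := by
      rcases Nat.eq_zero_or_pos m with h0 | h0
      · rw [h0, mul_zero] at hYcard
        have := hp.one_lt
        omega
      · exact h0
    rw [← hYcard, Nat.mul_div_cancel _ hm0]
  have hYT : Y ⊆ T := by
    intro η hη
    obtain ⟨ψ₁, hψ₁, rfl⟩ := Finset.mem_image.mp hη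
    exact hζT ψ₁ (Finset.mem_filter.mp hψ₁).2
  have hYmem : ∀ η ∈ Y, ∃ ψ₁ : (P : Subgroup G) →* ℂˣ, ψ₁ ≠ 1 ∧ ζ ψ₁ = η := by
    intro η hη
    obtain ⟨ψ₁, hψ₁, rfl⟩ := Finset.mem_image.mp hη
    exact ⟨ψ₁, (Finset.mem_filter.mp hψ₁).2, rfl⟩
  have hYa : ∀ η ∈ Y, a η = d := by
    intro η hη
    obtain ⟨ψ₁, h₁, rfl⟩ := hYmem η hη
    exact had ψ₁ h₁
  have hYdeg : ∀ η ∈ Y, charDegree (η : G → ℂ) = charDegree (ζ ψ₀ : G → ℂ) := by
    intro η hη
    obtain ⟨ψ₁, h₁, rfl⟩ := hYmem η hη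
    have := hagree ψ₁ ψ₀ h₁ hψ₀ 1 hreg1
    unfold charDegree
    rw [this]
  have hYtriv : Helper81.trivIrr G ∉ Y := by
    intro hη
    obtain ⟨ψ₁, h₁, he⟩ := hYmem _ hη
    exact hζtriv ψ₁ h₁ he
  have htrivT : Helper81.trivIrr G ∈ T := (hT _).mpr Helper81.trivIrr_mem_principalBlock
  -- values on `P`
  have hsumψ : ∀ ψ : (P : Subgroup G) →* ℂˣ, ψ ≠ 1 →
      ∑ y ∈ (Finset.univ : Finset (P : Subgroup G)).erase 1, ((ψ y : ℂˣ) : ℂ) = -1 := by
    intro ψ hψ
    have h1 := Helper82.excHom_orth hcommA (1 : (P : Subgroup G) →* ℂˣ) ψ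
    rw [if_neg (Ne.symm hψ)] at h1
    simp only [MonoidHom.one_apply, Units.val_one, map_one, one_mul] at h1
    have h2 := Finset.add_sum_erase (Finset.univ : Finset (P : Subgroup G))
      (fun y => ((ψ y : ℂˣ) : ℂ)) (Finset.mem_univ 1)
    rw [h1] at h2
    simp only [map_one, Units.val_one] at h2
    linear_combination h2
  have hcong : ∀ χ ∈ T, ((charDegree (χ : G → ℂ) : ℤ)) ≡ a χ + δ *
      ((Finset.univ.filter (fun ψ : (P : Subgroup G) →* ℂˣ => ψ ≠ 1 ∧ ζ ψ = χ)).card : ℤ)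
      [ZMOD p] := by
    intro χ hχ
    obtain ⟨n, hn⟩ := Helper81.exists_linMult χ (P : Subgroup G).subtype
      (1 : (P : Subgroup G) →* ℂˣ)
    simp only [MonoidHom.one_apply, Units.val_one, map_one, mul_one, Subgroup.coe_subtype] at hn
    have h2 := Finset.add_sum_erase (Finset.univ : Finset (P : Subgroup G))
      (fun y => (χ : G → ℂ) (y : G)) (Finset.mem_univ 1)
    rw [hn] at h2
    have h3 : ∑ y ∈ (Finset.univ : Finset (P : Subgroup G)).erase 1, (χ : G → ℂ) (y : G)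
        = ((p : ℂ) - 1) * (a χ : ℂ) - (δ : ℂ) *
          ((Finset.univ.filter (fun ψ : (P : Subgroup G) →* ℂˣ => ψ ≠ 1 ∧ ζ ψ = χ)).card : ℂ) := by
      have h4 : ∀ y ∈ (Finset.univ : Finset (P : Subgroup G)).erase 1, (χ : G → ℂ) (y : G)
          = (a χ : ℂ) + (δ : ℂ) * ∑ ψ ∈ Finset.univ.filter
            (fun ψ : (P : Subgroup G) →* ℂˣ => ψ ≠ 1 ∧ ζ ψ = χ), ((ψ y : ℂˣ) : ℂ) := by
        intro y hy
        rw [hval χ hχ y (Finset.ne_of_mem_erase hy)]
        congr 2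
        have hset : {ψ : (P : Subgroup G) →* ℂˣ | ψ ≠ 1 ∧ ζ ψ = χ}
            = ((Finset.univ.filter (fun ψ : (P : Subgroup G) →* ℂˣ => ψ ≠ 1 ∧ ζ ψ = χ)
              : Finset ((P : Subgroup G) →* ℂˣ)) : Set ((P : Subgroup G) →* ℂˣ)) := by
          ext ψ
          simp
        rw [hset, finsum_mem_coe_finset]
      rw [Finset.sum_congr rfl h4, Finset.sum_add_distrib, Finset.sum_const,
        Finset.card_erase_of_mem (Finset.mem_univ _), Finset.card_univ, hcardP, ← Finset.mul_sum,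
        Finset.sum_comm]
      have h5 : ∑ ψ ∈ Finset.univ.filter
          (fun ψ : (P : Subgroup G) →* ℂˣ => ψ ≠ 1 ∧ ζ ψ = χ),
          ∑ y ∈ (Finset.univ : Finset (P : Subgroup G)).erase 1, ((ψ y : ℂˣ) : ℂ)
          = ∑ ψ ∈ Finset.univ.filter
          (fun ψ : (P : Subgroup G) →* ℂˣ => ψ ≠ 1 ∧ ζ ψ = χ), (-1 : ℂ) :=
        Finset.sum_congr rfl (fun ψ hψ => hsumψ ψ (Finset.mem_filter.mp hψ).2.1)
      rw [h5, Finset.sum_const, nsmul_eq_mul, nsmul_eq_mul, Nat.cast_sub hp.one_lt.le]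
      push_cast
      ring
    rw [h3, Subgroup.coe_one, Helper81.irr_one_eq_charDegree, hcardP] at h2
    have h6 : ((charDegree (χ : G → ℂ) : ℤ) : ℂ) + (((p : ℤ) - 1) * a χ - δ *
        ((Finset.univ.filter (fun ψ : (P : Subgroup G) →* ℂˣ => ψ ≠ 1 ∧ ζ ψ = χ)).card : ℤ) : ℤ)
        = (((p : ℤ) * (n : ℤ) : ℤ) : ℂ) := by
      push_cast
      push_cast at h2
      linear_combination h2
    have h7 : (charDegree (χ : G → ℂ) : ℤ) + (((p : ℤ) - 1) * a χ - δ *
        ((Finset.univ.filter (fun ψ : (P : Subgroup G) →* ℂˣ => ψ ≠ 1 ∧ ζ ψ = χ)).card : ℤ))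
        = (p : ℤ) * (n : ℤ) := by
      exact_mod_cast h6
    rw [Int.modEq_iff_dvd]
    refine ⟨a χ - n, ?_⟩
    linear_combination (-1 : ℤ) * h7
  -- the trivial character
  obtain ⟨y₀, hy₀⟩ : ∃ y : (P : Subgroup G), y ≠ 1 :=
    Fintype.exists_ne_of_one_lt_card (by rw [hcardP]; exact hp.one_lt) 1
  have hSfX : ∀ χ, χ ∉ Y →
      Finset.univ.filter (fun ψ : (P : Subgroup G) →* ℂˣ => ψ ≠ 1 ∧ ζ ψ = χ) = ∅ := by
    intro χ hχY
    rw [Finset.filter_eq_empty_iff]
    rintro ψ - ⟨hψ, he⟩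
    exact hχY (Finset.mem_image.mpr ⟨ψ, Finset.mem_filter.mpr ⟨Finset.mem_univ _, hψ⟩, he⟩)
  have hatriv : a (Helper81.trivIrr G) = 1 := by
    have h1 := hval _ htrivT y₀ hy₀
    have hset : {ψ : (P : Subgroup G) →* ℂˣ | ψ ≠ 1 ∧ ζ ψ = Helper81.trivIrr G} = ∅ := by
      ext ψ
      simp only [Set.mem_ofPred_eq, Set.mem_empty_iff_false, iff_false, not_and]
      exact fun hψ => hζtriv ψ hψ
    rw [hset, finsum_mem_empty, mul_zero, add_zero, Helper81.trivIrr_apply] at h1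
    exact_mod_cast h1.symm
  have hdegtriv : charDegree (Helper81.trivIrr G : G → ℂ) = 1 := by
    unfold charDegree
    rw [Helper81.trivIrr_apply]
    simp
  set X : Finset (IrrCharacter G) := (T \ Y).filter (fun χ => a χ ≠ 0) with hX
  have htrivX : Helper81.trivIrr G ∈ X := by
    rw [hX, Finset.mem_filter, Finset.mem_sdiff]
    exact ⟨⟨htrivT, hYtriv⟩, by rw [hatriv]; norm_num⟩
  set D : ℕ := charDegree (ζ ψ₀ : G → ℂ) with hD
  have hζ₀Y : ζ ψ₀ ∈ Y := Finset.mem_image.mpr ⟨ψ₀, Finset.mem_filter.mpr ⟨Finset.mem_univ _, hψ₀⟩, rfl⟩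
  have hXmem : ∀ χ ∈ X.erase (Helper81.trivIrr G),
      χ ≠ Helper81.trivIrr G ∧ χ ∈ T ∧ χ ∉ Y ∧ a χ ≠ 0 := by
    intro χ hχ
    have h1 := Finset.mem_erase.mp hχ
    have h2 := Finset.mem_filter.mp h1.2
    have h3 := Finset.mem_sdiff.mp h2.1
    exact ⟨h1.1, h3.1, h3.2, h2.2⟩
  have hlist : ∀ f : ℤ × ℕ → ℤ,
      (((X.erase (Helper81.trivIrr G)).toList.map
        (fun χ => (a χ, charDegree (χ : G → ℂ)))).map f).sum
      = ∑ χ ∈ X.erase (Helper81.trivIrr G), f (a χ, charDegree (χ : G → ℂ)) := by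
    intro f
    rw [List.map_map, Finset.sum_map_toList]
    rfl
  have hlistN : ∀ f : ℤ × ℕ → ℕ,
      (((X.erase (Helper81.trivIrr G)).toList.map
        (fun χ => (a χ, charDegree (χ : G → ℂ)))).map f).sum
      = ∑ χ ∈ X.erase (Helper81.trivIrr G), f (a χ, charDegree (χ : G → ℂ)) := by
    intro f
    rw [List.map_map, Finset.sum_map_toList]
    rfl
  -- splitting sums over the principal block
  have hsplit : ∀ f : IrrCharacter G → ℤ, (∀ χ, a χ = 0 → f χ = 0) →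
      ∑ χ ∈ T, f χ = f (Helper81.trivIrr G) + ∑ χ ∈ X.erase (Helper81.trivIrr G), f χ
        + ∑ χ ∈ Y, f χ := by
    intro f hf
    rw [← Finset.sum_sdiff hYT, Finset.add_sum_erase X f htrivX, hX,
      Finset.sum_filter_of_ne]
    intro χ _ hχ h0
    exact hχ (hf χ h0)
  refine ⟨(X.erase (Helper81.trivIrr G)).toList.map (fun χ => (a χ, charDegree (χ : G → ℂ))),
    D, d, δ, hδ, ?_, ?_, ?_, ?_, ?_, ?_, ?_, ?_⟩
  · rw [hr, hYcard]
  · intro x hx
    obtain ⟨χ, hχ, rfl⟩ := List.mem_map.mp hx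
    obtain ⟨h1, h2, h3, h4⟩ := hXmem χ (Finset.mem_toList.mp hχ)
    refine ⟨h4, two_le_charDegree hna χ h1, Helper78.charDegree_dvd_card χ, ?_⟩
    have := hcong χ h2
    rw [hSfX χ h3, Finset.card_empty] at this
    simpa using this
  · exact two_le_charDegree hna _ (hζtriv ψ₀ hψ₀)
  · exact Helper78.charDegree_dvd_card _
  · have := hcong _ (hζT ψ₀ hψ₀)
    rw [hSf ψ₀ hψ₀, had ψ₀ hψ₀] at this
    exact this
  · rw [hlist (fun x => x.1 ^ 2), hr]
    have h1 := hsplit (fun χ => a χ ^ 2) (fun χ h0 => by simp [h0])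
    have h2 : ∑ χ ∈ Y, a χ ^ 2 = (Y.card : ℤ) * d ^ 2 := by
      rw [Finset.sum_congr rfl (fun χ hχ => by rw [hYa χ hχ]), Finset.sum_const, nsmul_eq_mul]
    rw [h1, h2, hatriv] at hnorm
    linear_combination hnorm
  · rw [hlist (fun x => x.1 * (x.2 : ℤ)), hr]
    have h0 := hpreg ψ₀ hψ₀ 1 hreg1
    have h0' : δ * (D : ℤ) = ∑ χ ∈ T, a χ * (charDegree (χ : G → ℂ) : ℤ) := by
      have h3 : ((δ * (D : ℤ) : ℤ) : ℂ)
          = ((∑ χ ∈ T, a χ * (charDegree (χ : G → ℂ) : ℤ) : ℤ) : ℂ) := by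
        push_cast
        rw [hD, ← Helper81.irr_one_eq_charDegree, h0]
        exact Finset.sum_congr rfl (fun χ _ => by rw [Helper81.irr_one_eq_charDegree])
      exact_mod_cast h3
    have h1 := hsplit (fun χ => a χ * (charDegree (χ : G → ℂ) : ℤ)) (fun χ h0 => by simp [h0])
    have h2 : ∑ χ ∈ Y, a χ * (charDegree (χ : G → ℂ) : ℤ) = (Y.card : ℤ) * (d * (D : ℤ)) := by
      rw [Finset.sum_congr rfl (fun χ hχ => by rw [hYa χ hχ, hYdeg χ hχ]), Finset.sum_const,
        nsmul_eq_mul]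
    rw [h1, h2, hatriv, hdegtriv] at h0'
    push_cast at h0'
    linear_combination (-1 : ℤ) * h0'
  · rw [hlistN (fun x => x.2 ^ 2), hr]
    show 1 + ∑ χ ∈ X.erase (Helper81.trivIrr G), charDegree (χ : G → ℂ) ^ 2 + Y.card * D ^ 2
      ≤ Nat.card G
    have hall : ∑ χ : IrrCharacter G, charDegree (χ : G → ℂ) ^ 2 = Nat.card G := by
      have h1 := Helper81.sum_irr_one_mul (1 : G)
      rw [if_pos rfl] at h1
      have h2 : ((∑ χ : IrrCharacter G, charDegree (χ : G → ℂ) ^ 2 : ℕ) : ℂ) = (Nat.card G : ℂ) := by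
        rw [← h1]
        push_cast
        exact Finset.sum_congr rfl (fun χ _ => by rw [Helper81.irr_one_eq_charDegree, sq])
      exact_mod_cast h2
    have hTle : ∑ χ ∈ T, charDegree (χ : G → ℂ) ^ 2 ≤ Nat.card G := by
      rw [← hall]
      exact Finset.sum_le_sum_of_subset (Finset.subset_univ T)
    have h1 : ∑ χ ∈ T \ Y, charDegree (χ : G → ℂ) ^ 2 + ∑ χ ∈ Y, charDegree (χ : G → ℂ) ^ 2
        = ∑ χ ∈ T, charDegree (χ : G → ℂ) ^ 2 := Finset.sum_sdiff hYT
    have h2 : ∑ χ ∈ Y, charDegree (χ : G → ℂ) ^ 2 = Y.card * D ^ 2 := by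
      rw [Finset.sum_congr rfl (fun χ hχ => by rw [hYdeg χ hχ]), Finset.sum_const, smul_eq_mul]
    have h3 : ∑ χ ∈ X, charDegree (χ : G → ℂ) ^ 2 ≤ ∑ χ ∈ T \ Y, charDegree (χ : G → ℂ) ^ 2 :=
      Finset.sum_le_sum_of_subset (Finset.filter_subset _ _)
    have h4 := Finset.add_sum_erase X (fun χ => charDegree (χ : G → ℂ) ^ 2) htrivX
    simp only [hdegtriv] at h4
    omega

/-- a simple group with a proper nontrivial Sylow subgroup is not abelian. -/
theorem exists_not_comm [Finite G] [IsSimpleGroup G] {p : ℕ} [Fact p.Prime] (P : Sylow p G)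
    (h1 : 1 < Nat.card (P : Subgroup G)) (h2 : Nat.card (P : Subgroup G) < Nat.card G) :
    ∃ a b : G, a * b ≠ b * a := by
  by_contra hcon
  push Not at hcon
  have hn : (P : Subgroup G).Normal :=
    ⟨fun n hn g => by rw [hcon g n, mul_inv_cancel_right]; exact hn⟩
  rcases hn.eq_bot_or_eq_top with h | h
  · rw [h, Subgroup.card_bot] at h1; omega
  · rw [h, Subgroup.card_top] at h2; omega

theorem list_sq_nonneg (l : List (ℤ × ℕ)) : 0 ≤ (l.map (fun x => x.1 ^ 2)).sum := by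
  apply List.sum_nonneg
  intro y hy
  obtain ⟨x, -, rfl⟩ := List.mem_map.mp hy
  positivity

theorem one_le_sq_of_ne_zero {x : ℤ} (hx : x ≠ 0) : 1 ≤ x ^ 2 := by
  have : 0 < x ^ 2 := by positivity
  omega

theorem eq_one_or_neg_one_of_sq {x : ℤ} (hx : x ^ 2 = 1) : x = 1 ∨ x = -1 := by
  have h : (x - 1) * (x + 1) = 0 := by linear_combination hx
  rcases mul_eq_zero.mp h with h | h
  · left; omega
  · right; omega

/-- nonzero integers with squares summing to `1`: a single `±1`. -/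
theorem list_sq_one (l : List (ℤ × ℕ)) (h0 : ∀ x ∈ l, x.1 ≠ 0)
    (hs : (l.map (fun x => x.1 ^ 2)).sum = 1) : ∃ x, l = [x] ∧ (x.1 = 1 ∨ x.1 = -1) := by
  match l, h0, hs with
  | [], _, hs => simp at hs
  | [x], _, hs =>
    refine ⟨x, rfl, eq_one_or_neg_one_of_sq ?_⟩
    simpa using hs
  | x :: y :: l', h0, hs =>
    exfalso
    have hx := one_le_sq_of_ne_zero (h0 x (by simp))
    have hy := one_le_sq_of_ne_zero (h0 y (by simp))
    have hl := list_sq_nonneg l'
    simp only [List.map_cons, List.sum_cons] at hs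
    omega

/-- nonzero integers with squares summing to `2`: two `±1`. -/
theorem list_sq_two (l : List (ℤ × ℕ)) (h0 : ∀ x ∈ l, x.1 ≠ 0)
    (hs : (l.map (fun x => x.1 ^ 2)).sum = 2) :
    ∃ x y, l = [x, y] ∧ (x.1 = 1 ∨ x.1 = -1) ∧ (y.1 = 1 ∨ y.1 = -1) := by
  match l, h0, hs with
  | [], _, hs => simp at hs
  | [x], _, hs =>
    exfalso
    simp only [List.map_cons, List.map_nil, List.sum_cons, List.sum_nil, add_zero] at hs
    have h1 : x.1 ≤ 1 := by nlinarith
    have h2 : -1 ≤ x.1 := by nlinarith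
    have h3 : x.1 = -1 ∨ x.1 = 0 ∨ x.1 = 1 := by omega
    rcases h3 with h | h | h <;> rw [h] at hs <;> norm_num at hs
  | [x, y], h0, hs =>
    have hx := one_le_sq_of_ne_zero (h0 x (by simp))
    have hy := one_le_sq_of_ne_zero (h0 y (by simp))
    simp only [List.map_cons, List.map_nil, List.sum_cons, List.sum_nil, add_zero] at hs
    exact ⟨x, y, rfl, eq_one_or_neg_one_of_sq (by omega), eq_one_or_neg_one_of_sq (by omega)⟩
  | x :: y :: z :: l', h0, hs =>
    exfalso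
    have hx := one_le_sq_of_ne_zero (h0 x (by simp))
    have hy := one_le_sq_of_ne_zero (h0 y (by simp))
    have hz := one_le_sq_of_ne_zero (h0 z (by simp))
    have hl := list_sq_nonneg l'
    simp only [List.map_cons, List.sum_cons] at hs
    omega

theorem mod_of_modEq_one {p f : ℕ} (hp : 1 < p) (h : (f : ℤ) ≡ 1 [ZMOD p]) : f % p = 1 := by
  have h1 : ((f : ℕ) : ℤ) ≡ ((1 : ℕ) : ℤ) [ZMOD p] := by simpa using h
  have h2 := Int.natCast_modEq_iff.mp h1
  rw [Nat.ModEq, Nat.mod_eq_of_lt hp] at h2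
  exact h2

theorem mod_of_modEq_neg_one {p f : ℕ} (h : (f : ℤ) ≡ -1 [ZMOD p]) : (f + 1) % p = 0 := by
  have h1 : ((f + 1 : ℕ) : ℤ) ≡ ((0 : ℕ) : ℤ) [ZMOD p] := by
    have := h.add_right 1
    simpa using this
  have h2 := Int.natCast_modEq_iff.mp h1
  rw [Nat.ModEq, Nat.zero_mod] at h2
  exact h2

/-- **Brauer, `|N(P) : C(P)| = 2`, `p ≥ 11`**: the principal `p`-block consists of `1`, one
character of degree `f ≡ ±1` and `(p - 1) / 2` characters of degree `f ± 1`. -/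
theorem brauer_two [Finite G] [IsSimpleGroup G] {p : ℕ} [Fact p.Prime] (P : Sylow p G)
    (hP : Nat.card (P : Subgroup G) = p) (hlt : p < Nat.card G) (hp11 : 11 ≤ p)
    (hN : Nat.card (normalizer ((P : Subgroup G) : Set G))
      = 2 * Nat.card (centralizer ((P : Subgroup G) : Set G))) :
    ∃ f D : ℕ, 2 ≤ f ∧ f ∣ Nat.card G ∧ 2 ≤ D ∧ D ∣ Nat.card G ∧
      1 + f ^ 2 + ((p - 1) / 2) * D ^ 2 ≤ Nat.card G ∧
      ((f % p = 1 ∧ D = f + 1) ∨ ((f + 1) % p = 0 ∧ D + 1 = f)) := by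
  have hp : p.Prime := Fact.out
  have hna := exists_not_comm P (by rw [hP]; exact hp.one_lt) (by rw [hP]; exact hlt)
  obtain ⟨l, D, d, δ, hδ, hr, hl, hD2, hDd, -, hnorm, hdeg, hsq⟩ :=
    brauer_list hna P hP 2 (by omega) (relIndex_of_card _ hN)
  rw [Nat.cast_ofNat] at hnorm
  have hr5 : (5 : ℤ) ≤ (((p - 1) / 2 : ℕ) : ℤ) := by
    have : 5 ≤ (p - 1) / 2 := by omega
    exact_mod_cast this
  have hS := list_sq_nonneg l
  have hδ2 : δ ^ 2 = 1 := by rcases hδ with h | h <;> rw [h] <;> norm_num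
  have hd0 : d = 0 := by
    by_contra hd
    have h1 := one_le_sq_of_ne_zero hd
    have h2 : 0 ≤ (d - δ) ^ 2 := by positivity
    have h3 : 4 * d ^ 2 ≤ ((((p - 1) / 2 : ℕ) : ℤ) - 1) * d ^ 2 :=
      mul_le_mul_of_nonneg_right (by linarith) (by positivity)
    linarith
  rw [hd0] at hnorm hdeg
  have hS1 : (l.map (fun x => x.1 ^ 2)).sum = 1 := by
    have : (0 - δ) ^ 2 = δ ^ 2 := by ring
    rw [this, hδ2] at hnorm
    have h0 : ((0 : ℤ)) ^ 2 = 0 := by norm_num
    rw [h0, mul_zero] at hnorm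
    linarith
  obtain ⟨x, rfl, hx⟩ := list_sq_one l (fun x hx => (hl x hx).1) hS1
  obtain ⟨-, hf2, hfd, hfmod⟩ := hl x (by simp)
  simp only [List.map_cons, List.map_nil, List.sum_cons, List.sum_nil, add_zero] at hdeg hsq
  refine ⟨x.2, D, hf2, hfd, hD2, hDd, by omega, ?_⟩
  have hD2' : (2 : ℤ) ≤ (D : ℤ) := by exact_mod_cast hD2
  have hf2' : (2 : ℤ) ≤ (x.2 : ℤ) := by exact_mod_cast hf2
  rcases hx with hx | hx
  · left
    rw [hx] at hfmod hdeg
    refine ⟨mod_of_modEq_one hp.one_lt hfmod, ?_⟩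
    rcases hδ with h | h
    · rw [h] at hdeg
      have : (D : ℤ) = (x.2 : ℤ) + 1 := by linarith
      exact_mod_cast this
    · rw [h] at hdeg
      exfalso
      linarith
  · right
    rw [hx] at hfmod hdeg
    refine ⟨mod_of_modEq_neg_one hfmod, ?_⟩
    rcases hδ with h | h
    · rw [h] at hdeg
      exfalso
      linarith
    · rw [h] at hdeg
      have : (D : ℤ) + 1 = (x.2 : ℤ) := by linarith
      exact_mod_cast this

/-- **Brauer, `|N(P) : C(P)| = 3`, `p ≥ 19`**: the principal `p`-block consists of `1`, two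
characters of degrees `f₂, f₃ ≡ ±1` and `(p - 1) / 3` characters of degree `D`, with
`± D = 1 ± f₂ ± f₃`. -/
theorem brauer_three [Finite G] [IsSimpleGroup G] {p : ℕ} [Fact p.Prime] (P : Sylow p G)
    (hP : Nat.card (P : Subgroup G) = p) (hlt : p < Nat.card G) (hp19 : 19 ≤ p)
    (hN : Nat.card (normalizer ((P : Subgroup G) : Set G))
      = 3 * Nat.card (centralizer ((P : Subgroup G) : Set G))) :
    ∃ f₂ f₃ D : ℕ, 2 ≤ f₂ ∧ f₂ ∣ Nat.card G ∧ 2 ≤ f₃ ∧ f₃ ∣ Nat.card G ∧ 2 ≤ D ∧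
      D ∣ Nat.card G ∧ 1 + f₂ ^ 2 + f₃ ^ 2 + ((p - 1) / 3) * D ^ 2 ≤ Nat.card G ∧
      ((f₂ % p = 1 ∧ f₃ % p = 1 ∧ D = f₂ + f₃ + 1) ∨
       (f₂ % p = 1 ∧ (f₃ + 1) % p = 0 ∧ (D + f₃ = f₂ + 1 ∨ D + f₂ + 1 = f₃)) ∨
       ((f₂ + 1) % p = 0 ∧ f₃ % p = 1 ∧ (D + f₂ = f₃ + 1 ∨ D + f₃ + 1 = f₂)) ∨
       ((f₂ + 1) % p = 0 ∧ (f₃ + 1) % p = 0 ∧ D + 1 = f₂ + f₃)) := by
  have hp : p.Prime := Fact.out
  have hna := exists_not_comm P (by rw [hP]; exact hp.one_lt) (by rw [hP]; exact hlt)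
  obtain ⟨l, D, d, δ, hδ, hr, hl, hD2, hDd, -, hnorm, hdeg, hsq⟩ :=
    brauer_list hna P hP 3 (by omega) (relIndex_of_card _ hN)
  rw [Nat.cast_ofNat] at hnorm
  have hr5 : (5 : ℤ) ≤ (((p - 1) / 3 : ℕ) : ℤ) := by
    have : 5 ≤ (p - 1) / 3 := by omega
    exact_mod_cast this
  have hS := list_sq_nonneg l
  have hδ2 : δ ^ 2 = 1 := by rcases hδ with h | h <;> rw [h] <;> norm_num
  have hd0 : d = 0 := by
    by_contra hd
    have h1 := one_le_sq_of_ne_zero hd
    have h2 : 0 ≤ (d - δ) ^ 2 := by positivity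
    have h3 : 4 * d ^ 2 ≤ ((((p - 1) / 3 : ℕ) : ℤ) - 1) * d ^ 2 :=
      mul_le_mul_of_nonneg_right (by linarith) (by positivity)
    linarith
  rw [hd0] at hnorm hdeg
  have hS1 : (l.map (fun x => x.1 ^ 2)).sum = 2 := by
    have : (0 - δ) ^ 2 = δ ^ 2 := by ring
    rw [this, hδ2] at hnorm
    have h0 : ((0 : ℤ)) ^ 2 = 0 := by norm_num
    rw [h0, mul_zero] at hnorm
    linarith
  obtain ⟨x, y, rfl, hx, hy⟩ := list_sq_two l (fun x hx => (hl x hx).1) hS1
  obtain ⟨-, hf2, hfd, hfmod⟩ := hl x (by simp)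
  obtain ⟨-, hg2, hgd, hgmod⟩ := hl y (by simp)
  simp only [List.map_cons, List.map_nil, List.sum_cons, List.sum_nil, add_zero] at hdeg hsq
  refine ⟨x.2, y.2, D, hf2, hfd, hg2, hgd, hD2, hDd, by omega, ?_⟩
  have hD2' : (2 : ℤ) ≤ (D : ℤ) := by exact_mod_cast hD2
  have hf2' : (2 : ℤ) ≤ (x.2 : ℤ) := by exact_mod_cast hf2
  have hg2' : (2 : ℤ) ≤ (y.2 : ℤ) := by exact_mod_cast hg2
  rcases hx with hx | hx <;> rcases hy with hy | hy <;> rw [hx] at hfmod hdeg <;>
    rw [hy] at hgmod hdeg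
  · left
    refine ⟨mod_of_modEq_one hp.one_lt hfmod, mod_of_modEq_one hp.one_lt hgmod, ?_⟩
    rcases hδ with h | h <;> rw [h] at hdeg
    · have : (D : ℤ) = (x.2 : ℤ) + (y.2 : ℤ) + 1 := by linarith
      exact_mod_cast this
    · exfalso; linarith
  · right; left
    refine ⟨mod_of_modEq_one hp.one_lt hfmod, mod_of_modEq_neg_one hgmod, ?_⟩
    rcases hδ with h | h <;> rw [h] at hdeg
    · left
      have : (D : ℤ) + (y.2 : ℤ) = (x.2 : ℤ) + 1 := by linarith
      exact_mod_cast this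
    · right
      have : (D : ℤ) + (x.2 : ℤ) + 1 = (y.2 : ℤ) := by linarith
      exact_mod_cast this
  · right; right; left
    refine ⟨mod_of_modEq_neg_one hfmod, mod_of_modEq_one hp.one_lt hgmod, ?_⟩
    rcases hδ with h | h <;> rw [h] at hdeg
    · left
      have : (D : ℤ) + (x.2 : ℤ) = (y.2 : ℤ) + 1 := by linarith
      exact_mod_cast this
    · right
      have : (D : ℤ) + (y.2 : ℤ) + 1 = (x.2 : ℤ) := by linarith
      exact_mod_cast this
  · right; right; right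
    refine ⟨mod_of_modEq_neg_one hfmod, mod_of_modEq_neg_one hgmod, ?_⟩
    rcases hδ with h | h <;> rw [h] at hdeg
    · exfalso; linarith
    · have : (D : ℤ) + 1 = (x.2 : ℤ) + (y.2 : ℤ) := by linarith
      exact_mod_cast this

end BrauerP

end Cfsg.Agent.Helper9
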