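import Cfsg.Agent.Helper9.BrauerP
import Cfsg.Agent.Helper78.StructConst
import Cfsg.Agent.Helper79.Quotient

set_option autoImplicit false
set_option linter.style.haveILetI false
set_option maxHeartbeats 1000000

/-!
# Products of classes in groups with a self-centralizing Sylow subgroup of prime order (helper9)

* `BrauerP.class_product_two`: let `G` be a finite simple group and `P` a Sylow `p`-subgroup of
  order `p ≥ 5` with `|C(P)| = p` and `|N(P)| = 2 p`.  Then for any two nontrivial `p`-regular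
  elements `t`, `l` and any nontrivial `z ∈ P` there are conjugates `t'` of `t` and `l'` of `l`
  with `t' * l' = z`.  (Brauer's exceptional characters and the class multiplication
  coefficients.)
-/

namespace Cfsg.Agent.Helper9

namespace BrauerP

open Subgroup Cfsg

open scoped ComplexConjugate

universe u

variable {G : Type u} [Group G]

/-- a nontrivial irreducible character of a simple group is faithful. -/
theorem irr_apply_ne_degree [Finite G] [IsSimpleGroup G] (χ : IrrCharacter G)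
    (hχ : χ ≠ Helper81.trivIrr G) {t : G} (ht : t ≠ 1) : (χ : G → ℂ) t ≠ (χ : G → ℂ) 1 := by
  classical
  haveI : Fintype G := Fintype.ofFinite G
  intro h
  have hc := Helper79.isCharacter_of_irr χ.2
  have hn := Helper79.charKer_normal hc
  have hmem : t ∈ Helper79.charKer hc := (Helper79.mem_charKer hc t).mpr h
  rcases hn.eq_bot_or_eq_top with h1 | h1
  · rw [h1, Subgroup.mem_bot] at hmem
    exact ht hmem
  · have hall : ∀ g : G, (χ : G → ℂ) g = (χ : G → ℂ) 1 := fun g =>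
      (Helper79.mem_charKer hc g).mp (h1 ▸ Subgroup.mem_top g)
    have ho := Helper81.irr_orthonormal χ (Helper81.trivIrr G)
    rw [if_neg hχ] at ho
    simp only [Helper81.trivIrr_apply, mul_one, hall, Finset.sum_const, Finset.card_univ,
      nsmul_eq_mul] at ho
    have hG : (Nat.card G : ℂ) ≠ 0 := by exact_mod_cast Nat.card_pos.ne'
    rw [← Nat.card_eq_fintype_card, ← mul_assoc, inv_mul_cancel₀ hG, one_mul] at ho
    exact Helper81.irr_one_ne_zero χ ho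

/-- **Products of classes.** `G` simple, `P` a Sylow `p`-subgroup of order `p ≥ 5` with
`|C(P)| = p` and `|N(P)| = 2 p`: every nontrivial element of `P` is a product of conjugates of
any two given nontrivial `p`-regular elements. -/
theorem class_product_two [Finite G] [IsSimpleGroup G] {p : ℕ} [Fact p.Prime] (P : Sylow p G)
    (hP : Nat.card (P : Subgroup G) = p) (hlt : p < Nat.card G) (hp5 : 5 ≤ p)
    (hC : Nat.card (centralizer ((P : Subgroup G) : Set G)) = p)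
    (hN : Nat.card (normalizer ((P : Subgroup G) : Set G)) = 2 * p)
    {t l z : G} (ht1 : t ≠ 1) (hl1 : l ≠ 1) (htp : ¬ p ∣ orderOf t) (hlp : ¬ p ∣ orderOf l)
    (hz : z ∈ (P : Subgroup G)) (hz1 : z ≠ 1) :
    ∃ t' l' : G, IsConj t t' ∧ IsConj l l' ∧ t' * l' = z := by
  classical
  have hp : p.Prime := Fact.out
  have hna := exists_not_comm P (by rw [hP]; exact hp.one_lt) (by rw [hP]; exact hlt)
  haveI : Fintype G := Fintype.ofFinite G
  haveI : Fintype (P : Subgroup G) := Fintype.ofFinite _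
  haveI : Finite ((P : Subgroup G) →* ℂˣ) := Helper80.finite_hom
  haveI : Fintype ((P : Subgroup G) →* ℂˣ) := Fintype.ofFinite _
  haveI : Fintype (IrrCharacter G) := Fintype.ofFinite _
  haveI : Fintype (normalizer ((P : Subgroup G) : Set G)) := Fintype.ofFinite _
  obtain ⟨M, hM⟩ := Helper78.exists_isPModular p hp
  haveI hMp : M.IsPrime := Helper81.isPrime_of_isPModular hM
  have hcent := OrdTools.le_centralizer_of_prime P hP
  have hcommA : ∀ x y : (P : Subgroup G), x * y = y * x := fun x y =>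
    Subtype.ext (Subgroup.mem_centralizer_iff.mp (hcent y.2) x x.2)
  have hab : IsMulCommutative (P : Subgroup G) := ⟨⟨hcommA⟩⟩
  have hfrob : ∀ y : G, y ∈ (P : Subgroup G) → y ≠ 1 → centralizer ({y} : Set G)
      ⊓ normalizer ((P : Subgroup G) : Set G) = centralizer ((P : Subgroup G) : Set G) := by
    intro y hy hy1
    rw [OrdTools.centralizer_singleton_eq (OrdTools.zpowers_eq_sylow P hP hy hy1)]
    exact inf_eq_left.mpr (Subgroup.centralizer_le_normalizer _)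
  have hcardP : Fintype.card (P : Subgroup G) = p := by
    rw [← Nat.card_eq_fintype_card, hP]
  have hCN : (centralizer ((P : Subgroup G) : Set G)).relIndex
      (normalizer ((P : Subgroup G) : Set G)) = 2 := relIndex_of_card _ (by rw [hN, hC])
  obtain ⟨T, δ, d, a, ζ, hT, hδ, hζT, hζR, had, hval, hnorm, hpreg, hagree, hζtriv, -⟩ :=
    Helper82.excFinal_data hM P hab hfrob 2 (by rw [hP]; omega) hCN
  have hcardHom : Fintype.card ((P : Subgroup G) →* ℂˣ) = p := by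
    rw [← Nat.card_eq_fintype_card, Helper82.excHom_card hcommA, hcardP]
  obtain ⟨ψ₀, hψ₀⟩ := Fintype.exists_ne_of_one_lt_card (by rw [hcardHom]; exact hp.one_lt)
    (1 : (P : Subgroup G) →* ℂˣ)
  have hreg1 : ¬ p ∣ orderOf (1 : G) := by
    rw [orderOf_one]
    exact hp.one_lt.ne' ∘ Nat.dvd_one.mp
  -- the fibres of `ζ`
  have hSf : ∀ ψ₁ : (P : Subgroup G) →* ℂˣ, ψ₁ ≠ 1 →
      (Finset.univ.filter (fun ψ : (P : Subgroup G) →* ℂˣ => ψ ≠ 1 ∧ ζ ψ = ζ ψ₁)).card = 2 := by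
    intro ψ₁ h₁
    have := Helper82.excMain_card_orbit P hfrob 2 hCN ψ₁ h₁
    rw [← this]
    congr 1
    ext ψ
    simp only [Finset.mem_filter, Finset.mem_univ, true_and, Finset.mem_image]
    constructor
    · rintro ⟨hψ, he⟩
      exact (hζR ψ₁ ψ h₁ hψ).mp he.symm
    · intro hrel
      have hψ : ψ ≠ 1 := Helper82.excRel_ne_one h₁ hrel
      exact ⟨hψ, ((hζR ψ₁ ψ h₁ hψ).mpr hrel).symm⟩
  set L : Finset ((P : Subgroup G) →* ℂˣ) := Finset.univ.filter (fun ψ => ψ ≠ 1) with hL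
  set Y : Finset (IrrCharacter G) := L.image ζ with hY
  have hLcard : L.card = p - 1 := by
    rw [hL, Finset.filter_ne' Finset.univ (1 : (P : Subgroup G) →* ℂˣ),
      Finset.card_erase_of_mem (Finset.mem_univ _), Finset.card_univ, hcardHom]
  have hYcard : Y.card * 2 = p - 1 := by
    have h1 := Finset.card_eq_sum_card_image ζ L
    have h2 : ∀ η ∈ L.image ζ, (L.filter (fun ψ => ζ ψ = η)).card = 2 := by
      intro η hη
      obtain ⟨ψ₁, hψ₁, rfl⟩ := Finset.mem_image.mp hη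
      have h₁ : ψ₁ ≠ 1 := (Finset.mem_filter.mp hψ₁).2
      rw [← hSf ψ₁ h₁, hL, Finset.filter_filter]
    rw [Finset.sum_congr rfl h2, Finset.sum_const, smul_eq_mul, hLcard] at h1
    exact h1.symm
  have hY2 : 2 ≤ Y.card := by omega
  have hYT : Y ⊆ T := by
    intro η hη
    obtain ⟨ψ₁, hψ₁, rfl⟩ := Finset.mem_image.mp hη
    exact hζT ψ₁ (Finset.mem_filter.mp hψ₁).2
  have hYmem : ∀ η ∈ Y, ∃ ψ₁ : (P : Subgroup G) →* ℂˣ, ψ₁ ≠ 1 ∧ ζ ψ₁ = η := by
    intro η hη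
    obtain ⟨ψ₁, hψ₁, rfl⟩ := Finset.mem_image.mp hη
    exact ⟨ψ₁, (Finset.mem_filter.mp hψ₁).2, rfl⟩
  have hYa : ∀ η ∈ Y, a η = d := by
    intro η hη
    obtain ⟨ψ₁, h₁, rfl⟩ := hYmem η hη
    exact had ψ₁ h₁
  have hYval : ∀ η ∈ Y, ∀ g : G, ¬ p ∣ orderOf g → (η : G → ℂ) g = (ζ ψ₀ : G → ℂ) g := by
    intro η hη g hg
    obtain ⟨ψ₁, h₁, rfl⟩ := hYmem η hη
    exact hagree ψ₁ ψ₀ h₁ hψ₀ g hg
  have hYtriv : Helper81.trivIrr G ∉ Y := by
    intro hη
    obtain ⟨ψ₁, h₁, he⟩ := hYmem _ hη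
    exact hζtriv ψ₁ h₁ he
  have htrivT : Helper81.trivIrr G ∈ T := (hT _).mpr Helper81.trivIrr_mem_principalBlock
  have hSfX : ∀ χ, χ ∉ Y →
      Finset.univ.filter (fun ψ : (P : Subgroup G) →* ℂˣ => ψ ≠ 1 ∧ ζ ψ = χ) = ∅ := by
    intro χ hχY
    rw [Finset.filter_eq_empty_iff]
    rintro ψ - ⟨hψ, he⟩
    exact hχY (Finset.mem_image.mpr ⟨ψ, Finset.mem_filter.mpr ⟨Finset.mem_univ _, hψ⟩, he⟩)
  -- values at nontrivial elements of `P`, with finite sums
  have hval' : ∀ χ ∈ T, ∀ y : (P : Subgroup G), y ≠ 1 → (χ : G → ℂ) (y : G)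
      = (a χ : ℂ) + (δ : ℂ) * ∑ ψ ∈ Finset.univ.filter
        (fun ψ : (P : Subgroup G) →* ℂˣ => ψ ≠ 1 ∧ ζ ψ = χ), ((ψ y : ℂˣ) : ℂ) := by
    intro χ hχ y hy
    rw [hval χ hχ y hy]
    congr 2
    have hset : {ψ : (P : Subgroup G) →* ℂˣ | ψ ≠ 1 ∧ ζ ψ = χ}
        = ((Finset.univ.filter (fun ψ : (P : Subgroup G) →* ℂˣ => ψ ≠ 1 ∧ ζ ψ = χ)
          : Finset ((P : Subgroup G) →* ℂˣ)) : Set ((P : Subgroup G) →* ℂˣ)) := by
      ext ψ
      simp
    rw [hset, finsum_mem_coe_finset]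
  have hvalX : ∀ χ ∈ T, χ ∉ Y → ∀ y : (P : Subgroup G), y ≠ 1 →
      (χ : G → ℂ) (y : G) = (a χ : ℂ) := by
    intro χ hχ hχY y hy
    rw [hval' χ hχ y hy, hSfX χ hχY, Finset.sum_empty, mul_zero, add_zero]
  have hatriv : a (Helper81.trivIrr G) = 1 := by
    have h1 := hvalX _ htrivT hYtriv ⟨z, hz⟩ (fun h => hz1 (congrArg Subtype.val h))
    rw [Helper81.trivIrr_apply] at h1
    exact_mod_cast h1.symm
  -- the non-exceptional characters
  set W : Finset (IrrCharacter G) := (T \ Y).filter (fun χ => a χ ≠ 0) with hW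
  have htrivW : Helper81.trivIrr G ∈ W := by
    rw [hW, Finset.mem_filter, Finset.mem_sdiff]
    exact ⟨⟨htrivT, hYtriv⟩, by rw [hatriv]; norm_num⟩
  have hWmem : ∀ χ ∈ W.erase (Helper81.trivIrr G),
      χ ≠ Helper81.trivIrr G ∧ χ ∈ T ∧ χ ∉ Y ∧ a χ ≠ 0 := by
    intro χ hχ
    have h1 := Finset.mem_erase.mp hχ
    have h2 := Finset.mem_filter.mp h1.2
    have h3 := Finset.mem_sdiff.mp h2.1
    exact ⟨h1.1, h3.1, h3.2, h2.2⟩
  have hsplitZ : ∀ f : IrrCharacter G → ℤ, (∀ χ ∈ T, χ ∉ Y → a χ = 0 → f χ = 0) →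
      ∑ χ ∈ T, f χ = f (Helper81.trivIrr G) + ∑ χ ∈ W.erase (Helper81.trivIrr G), f χ
        + ∑ χ ∈ Y, f χ := by
    intro f hf
    rw [← Finset.sum_sdiff hYT, Finset.add_sum_erase W f htrivW, hW,
      Finset.sum_filter_of_ne]
    intro χ hχ hχ0 h0
    have h3 := Finset.mem_sdiff.mp hχ
    exact hχ0 (hf χ h3.1 h3.2 h0)
  have hsplitC : ∀ f : IrrCharacter G → ℂ, (∀ χ ∈ T, χ ∉ Y → a χ = 0 → f χ = 0) →
      ∑ χ ∈ T, f χ = f (Helper81.trivIrr G) + ∑ χ ∈ W.erase (Helper81.trivIrr G), f χ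
        + ∑ χ ∈ Y, f χ := by
    intro f hf
    rw [← Finset.sum_sdiff hYT, Finset.add_sum_erase W f htrivW, hW,
      Finset.sum_filter_of_ne]
    intro χ hχ hχ0 h0
    have h3 := Finset.mem_sdiff.mp hχ
    exact hχ0 (hf χ h3.1 h3.2 h0)
  -- the norm equation
  have hnorm' : (d - δ) ^ 2 + ((Y.card : ℤ) - 1) * d ^ 2
      + ∑ χ ∈ W.erase (Helper81.trivIrr G), a χ ^ 2 = 2 := by
    have h1 := hsplitZ (fun χ => a χ ^ 2) (fun χ _ _ h0 => by simp [h0])
    have h2 : ∑ χ ∈ Y, a χ ^ 2 = (Y.card : ℤ) * d ^ 2 := by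
      rw [Finset.sum_congr rfl (fun χ hχ => by rw [hYa χ hχ]), Finset.sum_const, nsmul_eq_mul]
    rw [h1, h2, hatriv, Nat.cast_ofNat] at hnorm
    linear_combination hnorm
  -- the relation on `p`-regular elements
  have hrel : ∀ g : G, ¬ p ∣ orderOf g → ((δ : ℂ) - (Y.card : ℂ) * (d : ℂ)) * (ζ ψ₀ : G → ℂ) g
      = 1 + ∑ χ ∈ W.erase (Helper81.trivIrr G), (a χ : ℂ) * (χ : G → ℂ) g := by
    intro g hg
    have h0 := hpreg ψ₀ hψ₀ g hg
    have h1 := hsplitC (fun χ => (a χ : ℂ) * (χ : G → ℂ) g) (fun χ _ _ h0 => by simp [h0])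
    have h2 : ∑ χ ∈ Y, (a χ : ℂ) * (χ : G → ℂ) g
        = (Y.card : ℂ) * ((d : ℂ) * (ζ ψ₀ : G → ℂ) g) := by
      rw [Finset.sum_congr rfl (fun χ hχ => by rw [hYa χ hχ, hYval χ hχ g hg]), Finset.sum_const,
        nsmul_eq_mul]
    rw [h1, h2, hatriv, Helper81.trivIrr_apply] at h0
    push_cast at h0
    linear_combination h0
  have hD2 : 2 ≤ charDegree (ζ ψ₀ : G → ℂ) := two_le_charDegree hna _ (hζtriv ψ₀ hψ₀)
  have hδ2 : δ ^ 2 = 1 := by rcases hδ with h | h <;> rw [h] <;> norm_num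
  have hY2' : (2 : ℤ) ≤ (Y.card : ℤ) := by exact_mod_cast hY2
  have hSnn : ∀ χ ∈ W.erase (Helper81.trivIrr G), (1 : ℤ) ≤ a χ ^ 2 := fun χ hχ =>
    one_le_sq_of_ne_zero (hWmem χ hχ).2.2.2
  have hcardle : ((W.erase (Helper81.trivIrr G)).card : ℤ)
      ≤ ∑ χ ∈ W.erase (Helper81.trivIrr G), a χ ^ 2 := by
    have := Finset.card_nsmul_le_sum (W.erase (Helper81.trivIrr G)) (fun χ => a χ ^ 2) 1 hSnn
    simpa using this
  have hS1 : ∑ χ ∈ W.erase (Helper81.trivIrr G), a χ ^ 2 = 1 := by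
    have hSnn' : (0 : ℤ) ≤ ∑ χ ∈ W.erase (Helper81.trivIrr G), a χ ^ 2 :=
      Finset.sum_nonneg (fun χ hχ => by positivity)
    have h1 : (0 : ℤ) ≤ (d - δ) ^ 2 := by positivity
    have h2 : (0 : ℤ) ≤ ((Y.card : ℤ) - 1) * d ^ 2 :=
      mul_nonneg (by linarith) (by positivity)
    have hle : ∑ χ ∈ W.erase (Helper81.trivIrr G), a χ ^ 2 ≤ 2 := by linarith
    have hne0 : ∑ χ ∈ W.erase (Helper81.trivIrr G), a χ ^ 2 ≠ 0 := by
      intro h0
      have hc0 : (W.erase (Helper81.trivIrr G)).card = 0 := by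
        rw [h0] at hcardle
        exact_mod_cast le_antisymm hcardle (by positivity)
      have hempty := Finset.card_eq_zero.mp hc0
      have h3 := hrel 1 hreg1
      rw [hempty, Finset.sum_empty, add_zero, Helper81.irr_one_eq_charDegree] at h3
      have h4 : (δ - (Y.card : ℤ) * d) * (charDegree (ζ ψ₀ : G → ℂ) : ℤ) = 1 := by
        exact_mod_cast h3
      have h5 : ((charDegree (ζ ψ₀ : G → ℂ) : ℕ) : ℤ) ∣ 1 := Dvd.intro_left _ h4
      have h6 := Int.le_of_dvd (by norm_num) h5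
      have h7 : (2 : ℤ) ≤ (charDegree (ζ ψ₀ : G → ℂ) : ℤ) := by exact_mod_cast hD2
      linarith
    have hne2 : ∑ χ ∈ W.erase (Helper81.trivIrr G), a χ ^ 2 ≠ 2 := by
      intro h2'
      have h3 : (d - δ) ^ 2 = 0 := by linarith
      have h4 : ((Y.card : ℤ) - 1) * d ^ 2 = 0 := by linarith
      have h5 : d = δ := by
        have := pow_eq_zero_iff (n := 2) (by norm_num) |>.mp h3
        linarith
      rw [h5, hδ2, mul_one] at h4
      linarith
    omega
  obtain ⟨χ₂, hχ₂⟩ : ∃ χ₂, W.erase (Helper81.trivIrr G) = {χ₂} := by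
    apply Finset.card_eq_one.mp
    have h1 : ((W.erase (Helper81.trivIrr G)).card : ℤ) ≤ 1 := by rw [← hS1]; exact hcardle
    have h2 : (W.erase (Helper81.trivIrr G)).card ≠ 0 := by
      intro h0
      rw [Finset.card_eq_zero.mp h0, Finset.sum_empty] at hS1
      norm_num at hS1
    omega
  obtain ⟨hχ₂triv, hχ₂T, hχ₂Y, hχ₂a⟩ := hWmem χ₂ (by rw [hχ₂]; exact Finset.mem_singleton_self _)
  rw [hχ₂, Finset.sum_singleton] at hS1
  have hrel' : ∀ g : G, ¬ p ∣ orderOf g → ((δ : ℂ) - (Y.card : ℂ) * (d : ℂ)) * (ζ ψ₀ : G → ℂ) g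
      = 1 + (a χ₂ : ℂ) * (χ₂ : G → ℂ) g := by
    intro g hg
    have := hrel g hg
    rwa [hχ₂, Finset.sum_singleton] at this
  -- characters outside the principal block vanish on `P ∖ 1`
  have hvanish : ∀ w : G, w ∈ (P : Subgroup G) → w ≠ 1 → ∀ χ : IrrCharacter G, χ ∉ T →
      (χ : G → ℂ) w = 0 := by
    intro w hw hw1 χ hχ
    have h1 := Helper80.irr_sum_mul_inv w w
    have hcardC : (Finset.univ.filter (fun x : G => x * w * x⁻¹ = w)).card = p := by
      rw [← hC, ← OrdTools.centralizer_singleton_eq (OrdTools.zpowers_eq_sylow P hP hw hw1),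
        Nat.card_eq_fintype_card, Fintype.card_subtype]
      congr 1
      ext x
      simp only [Finset.mem_filter, Finset.mem_univ, true_and]
      rw [Subgroup.mem_centralizer_iff]
      constructor
      · intro hx y hy
        rw [Set.mem_singleton_iff] at hy
        subst hy
        have : x * y * x⁻¹ * x = y * x := by rw [hx]
        rw [inv_mul_cancel_right] at this
        exact this.symm
      · intro hx
        rw [← hx w rfl, mul_inv_cancel_right]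
    rw [hcardC] at h1
    have h2 := Helper82.excBlock_sum_self hM P hab hfrob w hw hw1
    have hset : Cfsg.principalBlock M G = ((T : Finset (IrrCharacter G)) : Set (IrrCharacter G)) := by
      ext χ'
      exact (hT χ').symm
    rw [hset, finsum_mem_coe_finset, hP] at h2
    have h3 : ∑ χ' : IrrCharacter G, ((Complex.normSq ((χ' : G → ℂ) w) : ℝ) : ℂ) = (p : ℂ) := by
      rw [← h1]
      exact Finset.sum_congr rfl (fun χ' _ => by rw [Helper77.irr_inv, Complex.mul_conj])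
    have h4 : ∑ χ' ∈ T, ((Complex.normSq ((χ' : G → ℂ) w) : ℝ) : ℂ) = (p : ℂ) := by
      rw [← h2]
      exact Finset.sum_congr rfl (fun χ' _ => by rw [Complex.mul_conj])
    have h5 : ∑ χ' ∈ Finset.univ \ T, Complex.normSq ((χ' : G → ℂ) w) = 0 := by
      have h6 := Finset.sum_sdiff (Finset.subset_univ T)
        (f := fun χ' : IrrCharacter G => ((Complex.normSq ((χ' : G → ℂ) w) : ℝ) : ℂ))
      rw [h3, h4] at h6
      have h7 : ((∑ χ' ∈ Finset.univ \ T, Complex.normSq ((χ' : G → ℂ) w) : ℝ) : ℂ) = 0 := by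
        push_cast
        linear_combination h6
      exact_mod_cast h7
    have h8 := (Finset.sum_eq_zero_iff_of_nonneg (fun χ' _ => Complex.normSq_nonneg _)).mp h5 χ
      (Finset.mem_sdiff.mpr ⟨Finset.mem_univ _, hχ⟩)
    exact Complex.normSq_eq_zero.mp h8
  -- the sum over the exceptional characters of the values at `z⁻¹`
  have hzi : z⁻¹ ∈ (P : Subgroup G) := inv_mem hz
  have hzi1 : z⁻¹ ≠ 1 := fun h => hz1 (inv_eq_one.mp h)
  have hsumL : ∑ ψ ∈ L, ((ψ (⟨z⁻¹, hzi⟩ : (P : Subgroup G)) : ℂˣ) : ℂ) = -1 := by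
    have h1 := Helper82.excHom_sum_dual hcommA (⟨z⁻¹, hzi⟩ : (P : Subgroup G))
    rw [if_neg (fun h => hzi1 (congrArg Subtype.val h))] at h1
    have h2 := Finset.add_sum_erase (Finset.univ : Finset ((P : Subgroup G) →* ℂˣ))
      (fun ψ => ((ψ (⟨z⁻¹, hzi⟩ : (P : Subgroup G)) : ℂˣ) : ℂ)) (Finset.mem_univ 1)
    rw [h1, ← Finset.filter_ne' Finset.univ (1 : (P : Subgroup G) →* ℂˣ)] at h2
    simp only [MonoidHom.one_apply, Units.val_one] at h2
    linear_combination h2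
  have hsumY : ∑ η ∈ Y, (η : G → ℂ) z⁻¹ = (Y.card : ℂ) * (d : ℂ) - (δ : ℂ) := by
    have h1 : ∀ η ∈ Y, (η : G → ℂ) z⁻¹ = (d : ℂ) + (δ : ℂ) *
        ∑ ψ ∈ L.filter (fun ψ => ζ ψ = η), ((ψ (⟨z⁻¹, hzi⟩ : (P : Subgroup G)) : ℂˣ) : ℂ) := by
      intro η hη
      have := hval' η (hYT hη) ⟨z⁻¹, hzi⟩ (fun h => hzi1 (congrArg Subtype.val h))
      rw [hYa η hη] at this
      rw [this, hL, Finset.filter_filter]
    rw [Finset.sum_congr rfl h1, Finset.sum_add_distrib, Finset.sum_const, ← Finset.mul_sum,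
      Finset.sum_fiberwise_of_maps_to (fun ψ hψ => Finset.mem_image_of_mem ζ hψ), hsumL,
      nsmul_eq_mul]
    ring
  -- the class multiplication coefficient
  have hmain := Helper78.sum_irr_omega_mul_mul_inv (Helper81.classInd_isClassFunction t) l z
  simp only [Helper81.omega_classInd] at hmain
  have hc0 : ((centralizer ({t} : Set G)).index : ℂ) ≠ 0 := by
    exact_mod_cast Subgroup.index_ne_zero_of_finite
  have hLHS : ∑ χ : IrrCharacter G,
      centralChar (χ : G → ℂ) t * (χ : G → ℂ) l * (χ : G → ℂ) z⁻¹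
      = ∑ χ ∈ T, centralChar (χ : G → ℂ) t * (χ : G → ℂ) l * (χ : G → ℂ) z⁻¹ := by
    symm
    apply Finset.sum_subset (Finset.subset_univ T)
    intro χ _ hχ
    rw [hvanish z⁻¹ hzi hzi1 χ hχ, mul_zero]
  have hzval : ∀ χ ∈ T, χ ∉ Y → (χ : G → ℂ) z⁻¹ = (a χ : ℂ) := fun χ hχ hχY =>
    hvalX χ hχ hχY ⟨z⁻¹, hzi⟩ (fun h => hzi1 (congrArg Subtype.val h))
  have h1 := hsplitC (fun χ => centralChar (χ : G → ℂ) t * (χ : G → ℂ) l * (χ : G → ℂ) z⁻¹)
    (fun χ hχ hχY h0 => by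
      show centralChar (χ : G → ℂ) t * (χ : G → ℂ) l * (χ : G → ℂ) z⁻¹ = 0
      rw [hzval χ hχ hχY, h0]
      simp)
  rw [hχ₂, Finset.sum_singleton] at h1
  have hE : ∑ η ∈ Y, centralChar (η : G → ℂ) t * (η : G → ℂ) l * (η : G → ℂ) z⁻¹
      = ((centralizer ({t} : Set G)).index : ℂ) * (ζ ψ₀ : G → ℂ) t / (ζ ψ₀ : G → ℂ) 1
        * (ζ ψ₀ : G → ℂ) l * ((Y.card : ℂ) * (d : ℂ) - (δ : ℂ)) := by
    rw [← hsumY, Finset.mul_sum]
    refine Finset.sum_congr rfl (fun η hη => ?_)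
    rw [centralChar, hYval η hη t htp, hYval η hη l hlp, hYval η hη 1 hreg1]
  rw [hLHS, h1, hE, hzval _ htrivT hYtriv, hzval χ₂ hχ₂T hχ₂Y, hatriv] at hmain
  simp only [centralChar, Helper81.trivIrr_apply] at hmain
  have ht' := hrel' t htp
  have hl' := hrel' l hlp
  have h1' := hrel' 1 hreg1
  have hf0 : (χ₂ : G → ℂ) 1 ≠ 0 := Helper81.irr_one_ne_zero χ₂
  have hE0 : (ζ ψ₀ : G → ℂ) 1 ≠ 0 := Helper81.irr_one_ne_zero _
  have ha0 : (a χ₂ : ℂ) ≠ 0 := by exact_mod_cast hχ₂a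
  have hu := irr_apply_ne_degree χ₂ hχ₂triv ht1
  have hv := irr_apply_ne_degree χ₂ hχ₂triv hl1
  have hne : ∑ g : G, Helper81.classInd t g *
      ((Finset.univ.filter (fun x : G => x * (g * l) * x⁻¹ = z)).card : ℂ) ≠ 0 := by
    intro hzero
    rw [hzero] at hmain
    have H0 : (χ₂ : G → ℂ) 1 * (ζ ψ₀ : G → ℂ) 1
        + (a χ₂ : ℂ) * (χ₂ : G → ℂ) t * (χ₂ : G → ℂ) l * (ζ ψ₀ : G → ℂ) 1
        - ((δ : ℂ) - (Y.card : ℂ) * (d : ℂ)) * (ζ ψ₀ : G → ℂ) t * (ζ ψ₀ : G → ℂ) l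
          * (χ₂ : G → ℂ) 1 = 0 := by
      have h2 : ((centralizer ({t} : Set G)).index : ℂ) *
          ((χ₂ : G → ℂ) 1 * (ζ ψ₀ : G → ℂ) 1
          + (a χ₂ : ℂ) * (χ₂ : G → ℂ) t * (χ₂ : G → ℂ) l * (ζ ψ₀ : G → ℂ) 1
          - ((δ : ℂ) - (Y.card : ℂ) * (d : ℂ)) * (ζ ψ₀ : G → ℂ) t * (ζ ψ₀ : G → ℂ) l
            * (χ₂ : G → ℂ) 1) = 0 := by
        have h3 := congrArg (fun x => x * ((χ₂ : G → ℂ) 1 * (ζ ψ₀ : G → ℂ) 1)) hmain
        simp only [zero_mul] at h3
        rw [← h3]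
        field_simp
        push_cast
        ring
      exact (mul_eq_zero.mp h2).resolve_left hc0
    have key : (a χ₂ : ℂ) * ((χ₂ : G → ℂ) 1 - (χ₂ : G → ℂ) t)
        * ((χ₂ : G → ℂ) 1 - (χ₂ : G → ℂ) l) = 0 := by
      linear_combination ((δ : ℂ) - (Y.card : ℂ) * (d : ℂ)) * H0
        - ((χ₂ : G → ℂ) 1 + (a χ₂ : ℂ) * (χ₂ : G → ℂ) t * (χ₂ : G → ℂ) l) * h1'
        + (χ₂ : G → ℂ) 1 * ((δ : ℂ) - (Y.card : ℂ) * (d : ℂ)) * (ζ ψ₀ : G → ℂ) l * ht'
        + (χ₂ : G → ℂ) 1 * (1 + (a χ₂ : ℂ) * (χ₂ : G → ℂ) t) * hl'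
    rcases mul_eq_zero.mp key with h4 | h4
    · rcases mul_eq_zero.mp h4 with h5 | h5
      · exact ha0 h5
      · exact hu (sub_eq_zero.mp h5).symm
    · exact hv (sub_eq_zero.mp h4).symm
  obtain ⟨g, -, hg⟩ := Finset.exists_ne_zero_of_sum_ne_zero hne
  have hg1 : Helper81.classInd t g ≠ 0 := left_ne_zero_of_mul hg
  have hg2 : ((Finset.univ.filter (fun x : G => x * (g * l) * x⁻¹ = z)).card : ℂ) ≠ 0 :=
    right_ne_zero_of_mul hg
  have hconj : IsConj t g := by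
    by_contra hcon
    apply hg1
    rw [Helper81.classInd, if_neg hcon]
  have hcard : (Finset.univ.filter (fun x : G => x * (g * l) * x⁻¹ = z)).card ≠ 0 := by
    exact_mod_cast hg2
  obtain ⟨x, hx⟩ := Finset.card_pos.mp (Nat.pos_of_ne_zero hcard)
  have hx' := (Finset.mem_filter.mp hx).2
  refine ⟨x * g * x⁻¹, x * l * x⁻¹, ?_, isConj_iff.mpr ⟨x, rfl⟩, ?_⟩
  · exact hconj.trans (isConj_iff.mpr ⟨x, rfl⟩)
  · rw [← hx']
    group

end BrauerP

end Cfsg.Agent.Helper9
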