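import Mathlib


set_option autoImplicit false
set_option linter.unusedSectionVars false
set_option linter.unusedVariables false
set_option linter.unusedSimpArgs false
set_option linter.style.haveILetI false

namespace Cfsg.Agent.Helper9.C3D

/-- `4 × 4` matrices over the field with two elements -/
abbrev M4 := Matrix (Fin 4) (Fin 4) (ZMod 2)

/-- a matrix coded by its four rows, each row a number below `16` (bit `j` = entry `j`) -/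
abbrev Code := ℕ × ℕ × ℕ × ℕ

def cb (b : Bool) : ZMod 2 := bif b then 1 else 0

def decRow (r : ℕ) : Fin 4 → ZMod 2 := fun j => cb (r.testBit j)

def dec (x : Code) : M4 :=
  Matrix.of ![decRow x.1, decRow x.2.1, decRow x.2.2.1, decRow x.2.2.2]

def sel (r k z : ℕ) : ℕ := bif r.testBit k then z else 0

def rmul (r : ℕ) (y : Code) : ℕ :=
  sel r 0 y.1 ^^^ sel r 1 y.2.1 ^^^ sel r 2 y.2.2.1 ^^^ sel r 3 y.2.2.2

def mulC (x y : Code) : Code := (rmul x.1 y, rmul x.2.1 y, rmul x.2.2.1 y, rmul x.2.2.2 y)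

def one : Code := (1, 2, 4, 8)
def cJ : Code := (2, 3, 8, 12)
def cJ2 : Code := (3, 1, 12, 4)

def isNJ (x : Code) : Bool :=
  decide (mulC x cJ = mulC cJ x) || decide (mulC x cJ = mulC cJ2 x)

def valid (e : Code × Code) : Bool :=
  isNJ e.1 && isNJ e.2 && decide (mulC e.1 e.2 = one) && decide (mulC e.2 e.1 = one)

def tv (a p : ℕ) : Code := (sel a 0 p ^^^ 1, sel a 1 p ^^^ 2, sel a 2 p ^^^ 4, sel a 3 p ^^^ 8)

def tstar : Code := (3, 2, 4, 8)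
def tI : Code := (5, 2, 4, 8)

def NL : List (Code × Code) := [((1,2,4,8),(1,2,4,8)),
  ((1,2,5,10),(1,2,5,10)),
  ((1,2,6,11),(1,2,6,11)),
  ((1,2,7,9),(1,2,7,9)),
  ((1,2,8,12),(1,2,12,4)),
  ((1,2,9,14),(1,2,15,5)),
  ((1,2,10,15),(1,2,13,6)),
  ((1,2,11,13),(1,2,14,7)),
  ((1,2,12,4),(1,2,8,12)),
  ((1,2,13,6),(1,2,10,15)),
  ((1,2,14,7),(1,2,11,13)),
  ((1,2,15,5),(1,2,9,14)),
  ((1,3,4,12),(1,3,4,12)),
  ((1,3,5,15),(1,3,5,15)),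
  ((1,3,6,13),(1,3,7,14)),
  ((1,3,7,14),(1,3,6,13)),
  ((1,3,8,4),(1,3,8,4)),
  ((1,3,9,7),(1,3,10,5)),
  ((1,3,10,5),(1,3,9,7)),
  ((1,3,11,6),(1,3,11,6)),
  ((1,3,12,8),(1,3,12,8)),
  ((1,3,13,11),(1,3,15,10)),
  ((1,3,14,9),(1,3,14,9)),
  ((1,3,15,10),(1,3,13,11)),
  ((2,1,4,12),(2,1,4,12)),
  ((2,1,5,15),(2,1,6,13)),
  ((2,1,6,13),(2,1,5,15)),
  ((2,1,7,14),(2,1,7,14)),
  ((2,1,8,4),(2,1,8,4)),
  ((2,1,9,7),(2,1,11,6)),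
  ((2,1,10,5),(2,1,10,5)),
  ((2,1,11,6),(2,1,9,7)),
  ((2,1,12,8),(2,1,12,8)),
  ((2,1,13,11),(2,1,13,11)),
  ((2,1,14,9),(2,1,15,10)),
  ((2,1,15,10),(2,1,14,9)),
  ((2,3,4,8),(3,1,4,8)),
  ((2,3,5,10),(3,1,7,9)),
  ((2,3,6,11),(3,1,5,10)),
  ((2,3,7,9),(3,1,6,11)),
  ((2,3,8,12),(3,1,12,4)),
  ((2,3,9,14),(3,1,14,7)),
  ((2,3,10,15),(3,1,15,5)),
  ((2,3,11,13),(3,1,13,6)),
  ((2,3,12,4),(3,1,8,12)),
  ((2,3,13,6),(3,1,9,14)),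
  ((2,3,14,7),(3,1,10,15)),
  ((2,3,15,5),(3,1,11,13)),
  ((3,1,4,8),(2,3,4,8)),
  ((3,1,5,10),(2,3,6,11)),
  ((3,1,6,11),(2,3,7,9)),
  ((3,1,7,9),(2,3,5,10)),
  ((3,1,8,12),(2,3,12,4)),
  ((3,1,9,14),(2,3,13,6)),
  ((3,1,10,15),(2,3,14,7)),
  ((3,1,11,13),(2,3,15,5)),
  ((3,1,12,4),(2,3,8,12)),
  ((3,1,13,6),(2,3,11,13)),
  ((3,1,14,7),(2,3,9,14)),
  ((3,1,15,5),(2,3,10,15)),
  ((3,2,4,12),(3,2,4,12)),
  ((3,2,5,15),(3,2,7,14)),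
  ((3,2,6,13),(3,2,6,13)),
  ((3,2,7,14),(3,2,5,15)),
  ((3,2,8,4),(3,2,8,4)),
  ((3,2,9,7),(3,2,9,7)),
  ((3,2,10,5),(3,2,11,6)),
  ((3,2,11,6),(3,2,10,5)),
  ((3,2,12,8),(3,2,12,8)),
  ((3,2,13,11),(3,2,14,9)),
  ((3,2,14,9),(3,2,13,11)),
  ((3,2,15,10),(3,2,15,10)),
  ((4,8,1,2),(4,8,1,2)),
  ((4,8,2,3),(12,4,1,2)),
  ((4,8,3,1),(8,12,1,2)),
  ((4,8,5,10),(5,10,1,2)),
  ((4,8,6,11),(15,5,1,2)),
  ((4,8,7,9),(10,15,1,2)),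
  ((4,8,9,14),(6,11,1,2)),
  ((4,8,10,15),(13,6,1,2)),
  ((4,8,11,13),(11,13,1,2)),
  ((4,8,13,6),(7,9,1,2)),
  ((4,8,14,7),(14,7,1,2)),
  ((4,8,15,5),(9,14,1,2)),
  ((4,12,1,3),(4,12,1,3)),
  ((4,12,2,1),(8,4,1,3)),
  ((4,12,3,2),(12,8,1,3)),
  ((4,12,5,15),(5,15,1,3)),
  ((4,12,6,13),(10,5,1,3)),
  ((4,12,7,14),(15,10,1,3)),
  ((4,12,9,7),(7,14,1,3)),
  ((4,12,10,5),(9,7,1,3)),
  ((4,12,11,6),(14,9,1,3)),
  ((4,12,13,11),(6,13,1,3)),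
  ((4,12,14,9),(11,6,1,3)),
  ((4,12,15,10),(13,11,1,3)),
  ((5,10,1,2),(4,8,5,10)),
  ((5,10,2,3),(12,4,13,6)),
  ((5,10,3,1),(8,12,9,14)),
  ((5,10,4,8),(5,10,4,8)),
  ((5,10,6,11),(10,15,11,13)),
  ((5,10,7,9),(15,5,14,7)),
  ((5,10,8,12),(13,6,12,4)),
  ((5,10,9,14),(11,13,10,15)),
  ((5,10,11,13),(6,11,7,9)),
  ((5,10,12,4),(9,14,8,12)),
  ((5,10,13,6),(14,7,15,5)),
  ((5,10,14,7),(7,9,6,11)),
  ((5,15,1,3),(4,12,5,15)),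
  ((5,15,2,1),(8,4,9,7)),
  ((5,15,3,2),(12,8,13,11)),
  ((5,15,4,12),(5,15,4,12)),
  ((5,15,6,13),(15,10,14,9)),
  ((5,15,7,14),(10,5,11,6)),
  ((5,15,8,4),(9,7,8,4)),
  ((5,15,9,7),(14,9,15,10)),
  ((5,15,11,6),(7,14,6,13)),
  ((5,15,12,8),(13,11,12,8)),
  ((5,15,13,11),(11,6,10,5)),
  ((5,15,14,9),(6,13,7,14)),
  ((6,11,1,2),(4,8,9,14)),
  ((6,11,2,3),(12,4,5,10)),
  ((6,11,3,1),(8,12,13,6)),
  ((6,11,4,8),(15,5,4,8)),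
  ((6,11,5,10),(10,15,14,7)),
  ((6,11,7,9),(5,10,11,13)),
  ((6,11,8,12),(11,13,12,4)),
  ((6,11,9,14),(13,6,7,9)),
  ((6,11,10,15),(6,11,10,15)),
  ((6,11,12,4),(7,9,8,12)),
  ((6,11,14,7),(9,14,15,5)),
  ((6,11,15,5),(14,7,6,11)),
  ((6,13,1,3),(4,12,13,11)),
  ((6,13,2,1),(8,4,5,15)),
  ((6,13,3,2),(12,8,9,7)),
  ((6,13,4,12),(10,5,4,12)),
  ((6,13,5,15),(15,10,11,6)),
  ((6,13,7,14),(5,15,14,9)),
  ((6,13,8,4),(14,9,8,4)),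
  ((6,13,9,7),(9,7,6,13)),
  ((6,13,10,5),(7,14,15,10)),
  ((6,13,12,8),(6,13,12,8)),
  ((6,13,14,9),(13,11,10,5)),
  ((6,13,15,10),(11,6,7,14)),
  ((7,9,1,2),(4,8,13,6)),
  ((7,9,2,3),(12,4,9,14)),
  ((7,9,3,1),(8,12,5,10)),
  ((7,9,4,8),(10,15,4,8)),
  ((7,9,5,10),(15,5,11,13)),
  ((7,9,6,11),(5,10,14,7)),
  ((7,9,8,12),(6,11,12,4)),
  ((7,9,10,15),(11,13,7,9)),
  ((7,9,11,13),(13,6,10,15)),
  ((7,9,12,4),(14,7,8,12)),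
  ((7,9,13,6),(9,14,6,11)),
  ((7,9,15,5),(7,9,15,5)),
  ((7,14,1,3),(4,12,9,7)),
  ((7,14,2,1),(8,4,13,11)),
  ((7,14,3,2),(12,8,5,15)),
  ((7,14,4,12),(15,10,4,12)),
  ((7,14,5,15),(10,5,14,9)),
  ((7,14,6,13),(5,15,11,6)),
  ((7,14,8,4),(7,14,8,4)),
  ((7,14,10,5),(14,9,6,13)),
  ((7,14,11,6),(9,7,15,10)),
  ((7,14,12,8),(11,6,12,8)),
  ((7,14,13,11),(13,11,7,14)),
  ((7,14,15,10),(6,13,10,5)),
  ((8,4,1,3),(4,12,2,1)),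
  ((8,4,2,1),(8,4,2,1)),
  ((8,4,3,2),(12,8,2,1)),
  ((8,4,5,15),(6,13,2,1)),
  ((8,4,6,13),(11,6,2,1)),
  ((8,4,7,14),(13,11,2,1)),
  ((8,4,9,7),(5,15,2,1)),
  ((8,4,10,5),(10,5,2,1)),
  ((8,4,11,6),(15,10,2,1)),
  ((8,4,13,11),(7,14,2,1)),
  ((8,4,14,9),(9,7,2,1)),
  ((8,4,15,10),(14,9,2,1)),
  ((8,12,1,2),(4,8,3,1)),
  ((8,12,2,3),(12,4,3,1)),
  ((8,12,3,1),(8,12,3,1)),
  ((8,12,5,10),(7,9,3,1)),
  ((8,12,6,11),(14,7,3,1)),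
  ((8,12,7,9),(9,14,3,1)),
  ((8,12,9,14),(5,10,3,1)),
  ((8,12,10,15),(15,5,3,1)),
  ((8,12,11,13),(10,15,3,1)),
  ((8,12,13,6),(6,11,3,1)),
  ((8,12,14,7),(13,6,3,1)),
  ((8,12,15,5),(11,13,3,1)),
  ((9,7,1,3),(4,12,10,5)),
  ((9,7,2,1),(8,4,14,9)),
  ((9,7,3,2),(12,8,6,13)),
  ((9,7,4,12),(13,11,4,12)),
  ((9,7,5,15),(11,6,15,10)),
  ((9,7,6,13),(6,13,9,7)),
  ((9,7,8,4),(5,15,8,4)),
  ((9,7,10,5),(15,10,7,14)),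
  ((9,7,11,6),(10,5,13,11)),
  ((9,7,12,8),(9,7,12,8)),
  ((9,7,13,11),(14,9,5,15)),
  ((9,7,15,10),(7,14,11,6)),
  ((9,14,1,2),(4,8,15,5)),
  ((9,14,2,3),(12,4,11,13)),
  ((9,14,3,1),(8,12,7,9)),
  ((9,14,4,8),(9,14,4,8)),
  ((9,14,5,10),(14,7,10,15)),
  ((9,14,6,11),(7,9,13,6)),
  ((9,14,8,12),(5,10,12,4)),
  ((9,14,10,15),(10,15,6,11)),
  ((9,14,11,13),(15,5,9,14)),
  ((9,14,12,4),(13,6,8,12)),
  ((9,14,13,6),(11,13,5,10)),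
  ((9,14,15,5),(6,11,14,7)),
  ((10,5,1,3),(4,12,6,13)),
  ((10,5,2,1),(8,4,10,5)),
  ((10,5,3,2),(12,8,14,9)),
  ((10,5,4,12),(6,13,4,12)),
  ((10,5,6,13),(13,11,15,10)),
  ((10,5,7,14),(11,6,9,7)),
  ((10,5,8,4),(10,5,8,4)),
  ((10,5,9,7),(15,10,13,11)),
  ((10,5,11,6),(5,15,7,14)),
  ((10,5,12,8),(14,9,12,8)),
  ((10,5,13,11),(9,7,11,6)),
  ((10,5,14,9),(7,14,5,15)),
  ((10,15,1,2),(4,8,7,9)),
  ((10,15,2,3),(12,4,15,5)),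
  ((10,15,3,1),(8,12,11,13)),
  ((10,15,4,8),(7,9,4,8)),
  ((10,15,6,11),(9,14,10,15)),
  ((10,15,7,9),(14,7,13,6)),
  ((10,15,8,12),(15,5,12,4)),
  ((10,15,9,14),(10,15,9,14)),
  ((10,15,11,13),(5,10,6,11)),
  ((10,15,12,4),(11,13,8,12)),
  ((10,15,13,6),(13,6,14,7)),
  ((10,15,14,7),(6,11,5,10)),
  ((11,6,1,3),(4,12,14,9)),
  ((11,6,2,1),(8,4,6,13)),
  ((11,6,3,2),(12,8,10,5)),
  ((11,6,4,12),(11,6,4,12)),
  ((11,6,5,15),(13,11,9,7)),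
  ((11,6,7,14),(6,13,15,10)),
  ((11,6,8,4),(15,10,8,4)),
  ((11,6,9,7),(10,5,7,14)),
  ((11,6,10,5),(5,15,13,11)),
  ((11,6,12,8),(7,14,12,8)),
  ((11,6,14,9),(14,9,11,6)),
  ((11,6,15,10),(9,7,5,15)),
  ((11,13,1,2),(4,8,11,13)),
  ((11,13,2,3),(12,4,7,9)),
  ((11,13,3,1),(8,12,15,5)),
  ((11,13,4,8),(14,7,4,8)),
  ((11,13,5,10),(9,14,13,6)),
  ((11,13,7,9),(7,9,10,15)),
  ((11,13,8,12),(10,15,12,4)),
  ((11,13,9,14),(15,5,6,11)),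
  ((11,13,10,15),(5,10,9,14)),
  ((11,13,12,4),(6,11,8,12)),
  ((11,13,14,7),(11,13,14,7)),
  ((11,13,15,5),(13,6,5,10)),
  ((12,4,1,2),(4,8,2,3)),
  ((12,4,2,3),(12,4,2,3)),
  ((12,4,3,1),(8,12,2,3)),
  ((12,4,5,10),(6,11,2,3)),
  ((12,4,6,11),(13,6,2,3)),
  ((12,4,7,9),(11,13,2,3)),
  ((12,4,9,14),(7,9,2,3)),
  ((12,4,10,15),(14,7,2,3)),
  ((12,4,11,13),(9,14,2,3)),
  ((12,4,13,6),(5,10,2,3)),
  ((12,4,14,7),(15,5,2,3)),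
  ((12,4,15,5),(10,15,2,3)),
  ((12,8,1,3),(4,12,3,2)),
  ((12,8,2,1),(8,4,3,2)),
  ((12,8,3,2),(12,8,3,2)),
  ((12,8,5,15),(7,14,3,2)),
  ((12,8,6,13),(9,7,3,2)),
  ((12,8,7,14),(14,9,3,2)),
  ((12,8,9,7),(6,13,3,2)),
  ((12,8,10,5),(11,6,3,2)),
  ((12,8,11,6),(13,11,3,2)),
  ((12,8,13,11),(5,15,3,2)),
  ((12,8,14,9),(10,5,3,2)),
  ((12,8,15,10),(15,10,3,2)),
  ((13,6,1,2),(4,8,10,15)),
  ((13,6,2,3),(12,4,6,11)),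
  ((13,6,3,1),(8,12,14,7)),
  ((13,6,4,8),(13,6,4,8)),
  ((13,6,5,10),(11,13,15,5)),
  ((13,6,7,9),(6,11,9,14)),
  ((13,6,8,12),(9,14,12,4)),
  ((13,6,9,14),(14,7,5,10)),
  ((13,6,10,15),(7,9,11,13)),
  ((13,6,12,4),(5,10,8,12)),
  ((13,6,14,7),(10,15,13,6)),
  ((13,6,15,5),(15,5,7,9)),
  ((13,11,1,3),(4,12,15,10)),
  ((13,11,2,1),(8,4,7,14)),
  ((13,11,3,2),(12,8,11,6)),
  ((13,11,4,12),(9,7,4,12)),
  ((13,11,5,15),(14,9,10,5)),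
  ((13,11,7,14),(7,14,13,11)),
  ((13,11,8,4),(13,11,8,4)),
  ((13,11,9,7),(11,6,5,15)),
  ((13,11,10,5),(6,13,14,9)),
  ((13,11,12,8),(5,15,12,8)),
  ((13,11,14,9),(15,10,9,7)),
  ((13,11,15,10),(10,5,6,13)),
  ((14,7,1,2),(4,8,14,7)),
  ((14,7,2,3),(12,4,10,15)),
  ((14,7,3,1),(8,12,6,11)),
  ((14,7,4,8),(11,13,4,8)),
  ((14,7,5,10),(13,6,9,14)),
  ((14,7,6,11),(6,11,15,5)),
  ((14,7,8,12),(7,9,12,4)),
  ((14,7,10,15),(9,14,5,10)),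
  ((14,7,11,13),(14,7,11,13)),
  ((14,7,12,4),(15,5,8,12)),
  ((14,7,13,6),(10,15,7,9)),
  ((14,7,15,5),(5,10,13,6)),
  ((14,9,1,3),(4,12,11,6)),
  ((14,9,2,1),(8,4,15,10)),
  ((14,9,3,2),(12,8,7,14)),
  ((14,9,4,12),(14,9,4,12)),
  ((14,9,5,15),(9,7,13,11)),
  ((14,9,6,13),(7,14,10,5)),
  ((14,9,8,4),(6,13,8,4)),
  ((14,9,10,5),(13,11,5,15)),
  ((14,9,11,6),(11,6,14,9)),
  ((14,9,12,8),(10,5,12,8)),
  ((14,9,13,11),(15,10,6,13)),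
  ((14,9,15,10),(5,15,9,7)),
  ((15,5,1,2),(4,8,6,11)),
  ((15,5,2,3),(12,4,14,7)),
  ((15,5,3,1),(8,12,10,15)),
  ((15,5,4,8),(6,11,4,8)),
  ((15,5,6,11),(11,13,9,14)),
  ((15,5,7,9),(13,6,15,5)),
  ((15,5,8,12),(14,7,12,4)),
  ((15,5,9,14),(9,14,11,13)),
  ((15,5,11,13),(7,9,5,10)),
  ((15,5,12,4),(10,15,8,12)),
  ((15,5,13,6),(15,5,13,6)),
  ((15,5,14,7),(5,10,7,9)),
  ((15,10,1,3),(4,12,7,14)),
  ((15,10,2,1),(8,4,11,6)),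
  ((15,10,3,2),(12,8,15,10)),
  ((15,10,4,12),(7,14,4,12)),
  ((15,10,6,13),(14,9,13,11)),
  ((15,10,7,14),(9,7,10,5)),
  ((15,10,8,4),(11,6,8,4)),
  ((15,10,9,7),(13,11,14,9)),
  ((15,10,11,6),(6,13,5,15)),
  ((15,10,12,8),(15,10,12,8)),
  ((15,10,13,11),(10,5,9,7)),
  ((15,10,14,9),(5,15,6,13))]

def tabN : List ℕ := [0,0,0,0,0,0,0,0,0,0,0,0,0,0,0,0,0,0,0,12,0,1,2,3,8,11,9,10,4,6,7,5,0,24,0,48,24,26,25,27,28,31,30,29,32,33,35,34,0,36,60,0,36,38,39,37,44,45,46,47,40,43,41,42,0,72,168,180,0,96,216,228,72,120,192,252,84,132,240,204,0,75,174,186,99,0,236,224,198,260,75,125,210,248,137,87,0,78,171,189,219,239,0,104,261,197,128,78,141,93,215,245,0,81,177,183,231,227,107,0,129,81,257,203,249,209,90,140,0,74,169,182,85,133,241,206,0,98,217,230,74,122,193,254,0,83,178,185,207,251,139,91,105,0,232,226,201,256,83,130,0,77,175,188,135,88,211,247,222,235,0,100,258,200,124,77,0,80,172,191,243,214,94,143,237,221,103,0,126,80,262,196,0,73,170,181,73,121,194,253,86,134,242,205,0,97,218,229,0,79,173,190,195,263,79,127,213,244,142,95,102,0,238,220,0,82,179,184,255,202,131,82,138,92,208,250,225,233,0,106,0,76,176,187,123,76,259,199,246,212,89,136,234,223,101,0]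

def caseTab : List (Code × ℕ × ℕ × ℕ × Bool) := [((0,0,0,0),0,0,0,false),
  ((0,0,0,0),0,0,0,false),
  ((0,0,0,0),0,0,0,false),
  ((0,0,0,0),0,0,0,false),
  ((0,0,0,0),0,0,0,false),
  ((0,0,0,0),0,0,0,false),
  ((0,0,0,0),0,0,0,false),
  ((0,0,0,0),0,0,0,false),
  ((0,0,0,0),0,0,0,false),
  ((0,0,0,0),0,0,0,false),
  ((0,0,0,0),0,0,0,false),
  ((0,0,0,0),0,0,0,false),
  ((0,0,0,0),0,0,0,false),
  ((0,0,0,0),0,0,0,false),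
  ((0,0,0,0),0,0,0,false),
  ((0,0,0,0),0,0,0,false),
  ((0,0,0,0),0,0,0,false),
  ((0,0,0,0),0,0,0,false),
  ((0,0,0,0),0,0,0,false),
  ((0,0,0,0),0,0,0,false),
  ((0,0,0,0),0,0,0,false),
  ((0,0,0,0),0,0,0,false),
  ((0,0,0,0),0,0,0,false),
  ((0,0,0,0),0,0,0,false),
  ((0,0,0,0),0,0,0,false),
  ((0,0,0,0),0,0,0,false),
  ((0,0,0,0),0,0,0,false),
  ((0,0,0,0),0,0,0,false),
  ((0,0,0,0),0,0,0,false),
  ((0,0,0,0),0,0,0,false),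
  ((0,0,0,0),0,0,0,false),
  ((0,0,0,0),0,0,0,false),
  ((0,0,0,0),0,0,0,false),
  ((0,0,0,0),0,0,0,false),
  ((0,0,0,0),0,0,0,false),
  ((0,0,0,0),0,0,0,false),
  ((0,0,0,0),0,0,0,false),
  ((0,0,0,0),0,0,0,false),
  ((0,0,0,0),0,0,0,false),
  ((0,0,0,0),0,0,0,false),
  ((0,0,0,0),0,0,0,false),
  ((0,0,0,0),0,0,0,false),
  ((0,0,0,0),0,0,0,false),
  ((0,0,0,0),0,0,0,false),
  ((0,0,0,0),0,0,0,false),
  ((0,0,0,0),0,0,0,false),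
  ((0,0,0,0),0,0,0,false),
  ((0,0,0,0),0,0,0,false),
  ((0,0,0,0),0,0,0,false),
  ((0,0,0,0),0,0,0,false),
  ((0,0,0,0),0,0,0,false),
  ((0,0,0,0),0,0,0,false),
  ((0,0,0,0),0,0,0,false),
  ((0,0,0,0),0,0,0,false),
  ((0,0,0,0),0,0,0,false),
  ((0,0,0,0),0,0,0,false),
  ((0,0,0,0),0,0,0,false),
  ((0,0,0,0),0,0,0,false),
  ((0,0,0,0),0,0,0,false),
  ((0,0,0,0),0,0,0,false),
  ((0,0,0,0),0,0,0,false),
  ((0,0,0,0),0,0,0,false),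
  ((0,0,0,0),0,0,0,false),
  ((0,0,0,0),0,0,0,false),
  ((0,0,0,0),0,0,0,false),
  ((0,0,0,0),0,0,0,false),
  ((0,0,0,0),0,0,0,false),
  ((0,0,0,0),0,0,0,false),
  ((0,0,0,0),0,0,0,false),
  ((0,0,0,0),0,0,0,false),
  ((0,0,0,0),0,0,0,false),
  ((0,0,0,0),0,0,0,false),
  ((0,0,0,0),0,0,0,false),
  ((1,2,4,9),4,8,72,true),
  ((1,2,4,10),4,8,73,true),
  ((1,2,4,11),4,8,74,true),
  ((1,2,4,12),1,1,168,true),
  ((1,2,4,13),1,1,168,true),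
  ((1,2,4,14),1,1,168,true),
  ((1,2,4,15),1,1,168,true),
  ((0,0,0,0),0,0,0,false),
  ((0,0,0,0),0,0,0,false),
  ((0,0,0,0),0,0,0,false),
  ((0,0,0,0),0,0,0,false),
  ((0,0,0,0),0,0,0,false),
  ((0,0,0,0),0,0,0,false),
  ((0,0,0,0),0,0,0,false),
  ((0,0,0,0),0,0,0,false),
  ((1,2,5,8),4,8,84,true),
  ((1,2,5,9),4,8,168,true),
  ((0,0,0,0),0,0,0,false),
  ((1,2,5,11),4,9,169,true),
  ((1,2,5,13),1,1,168,true),
  ((1,2,5,12),1,1,168,true),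
  ((1,2,5,15),1,1,168,true),
  ((1,2,5,14),1,1,168,true),
  ((0,0,0,0),0,0,0,false),
  ((0,0,0,0),0,0,0,false),
  ((0,0,0,0),0,0,0,false),
  ((0,0,0,0),0,0,0,false),
  ((0,0,0,0),0,0,0,false),
  ((0,0,0,0),0,0,0,false),
  ((0,0,0,0),0,0,0,false),
  ((0,0,0,0),0,0,0,false),
  ((1,2,6,8),4,8,85,true),
  ((1,2,6,9),4,9,84,true),
  ((1,2,6,10),4,8,169,true),
  ((0,0,0,0),0,0,0,false),
  ((1,2,6,14),1,1,168,true),
  ((1,2,6,15),1,1,168,true),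
  ((1,2,6,12),1,1,168,true),
  ((1,2,6,13),1,1,168,true),
  ((0,0,0,0),0,0,0,false),
  ((0,0,0,0),0,0,0,false),
  ((0,0,0,0),0,0,0,false),
  ((0,0,0,0),0,0,0,false),
  ((0,0,0,0),0,0,0,false),
  ((0,0,0,0),0,0,0,false),
  ((0,0,0,0),0,0,0,false),
  ((0,0,0,0),0,0,0,false),
  ((1,2,7,8),4,8,86,true),
  ((0,0,0,0),0,0,0,false),
  ((1,2,7,10),4,9,74,true),
  ((1,2,7,11),4,8,170,true),
  ((1,2,7,15),1,1,168,true),
  ((1,2,7,14),1,1,168,true),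
  ((1,2,7,13),1,1,168,true),
  ((1,2,7,12),1,1,168,true),
  ((0,0,0,0),0,0,0,false),
  ((0,0,0,0),0,0,0,false),
  ((0,0,0,0),0,0,0,false),
  ((0,0,0,0),0,0,0,false),
  ((1,2,8,4),1,1,86,true),
  ((1,2,9,4),1,1,86,true),
  ((1,2,10,4),1,1,86,true),
  ((1,2,11,4),1,1,86,true),
  ((0,0,0,0),0,0,0,false),
  ((0,0,0,0),0,0,0,false),
  ((0,0,0,0),0,0,0,false),
  ((0,0,0,0),0,0,0,false),
  ((0,0,0,0),0,0,0,false),
  ((1,2,13,4),4,8,72,true),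
  ((1,2,14,4),4,8,73,true),
  ((1,2,15,4),4,8,74,true),
  ((0,0,0,0),0,0,0,false),
  ((0,0,0,0),0,0,0,false),
  ((0,0,0,0),0,0,0,false),
  ((0,0,0,0),0,0,0,false),
  ((1,2,8,5),1,1,86,true),
  ((1,2,9,5),1,1,86,true),
  ((1,2,10,5),1,1,86,true),
  ((1,2,11,5),1,1,86,true),
  ((0,0,0,0),0,0,0,false),
  ((0,0,0,0),0,0,0,false),
  ((0,0,0,0),0,0,0,false),
  ((0,0,0,0),0,0,0,false),
  ((1,2,13,5),4,8,84,true),
  ((1,2,12,5),4,8,168,true),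
  ((0,0,0,0),0,0,0,false),
  ((1,2,14,5),4,9,72,true),
  ((0,0,0,0),0,0,0,false),
  ((0,0,0,0),0,0,0,false),
  ((0,0,0,0),0,0,0,false),
  ((0,0,0,0),0,0,0,false),
  ((1,2,8,6),1,1,86,true),
  ((1,2,9,6),1,1,86,true),
  ((1,2,10,6),1,1,86,true),
  ((1,2,11,6),1,1,86,true),
  ((0,0,0,0),0,0,0,false),
  ((0,0,0,0),0,0,0,false),
  ((0,0,0,0),0,0,0,false),
  ((0,0,0,0),0,0,0,false),
  ((1,2,14,6),4,8,85,true),
  ((1,2,15,6),4,9,170,true),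
  ((1,2,12,6),4,8,169,true),
  ((0,0,0,0),0,0,0,false),
  ((0,0,0,0),0,0,0,false),
  ((0,0,0,0),0,0,0,false),
  ((0,0,0,0),0,0,0,false),
  ((0,0,0,0),0,0,0,false),
  ((1,2,8,7),1,1,86,true),
  ((1,2,9,7),1,1,86,true),
  ((1,2,10,7),1,1,86,true),
  ((1,2,11,7),1,1,86,true),
  ((0,0,0,0),0,0,0,false),
  ((0,0,0,0),0,0,0,false),
  ((0,0,0,0),0,0,0,false),
  ((0,0,0,0),0,0,0,false),
  ((1,2,15,7),4,8,86,true),
  ((0,0,0,0),0,0,0,false),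
  ((1,2,13,7),4,9,85,true),
  ((1,2,12,7),4,8,170,true),
  ((0,0,0,0),0,0,0,false),
  ((0,0,0,0),0,0,0,false),
  ((0,0,0,0),0,0,0,false),
  ((0,0,0,0),0,0,0,false),
  ((0,0,0,0),0,0,0,false),
  ((1,2,9,13),4,8,72,true),
  ((1,2,10,14),4,8,73,true),
  ((1,2,11,15),4,8,74,true),
  ((1,2,12,8),1,1,73,true),
  ((1,2,13,9),1,1,73,true),
  ((1,2,14,10),1,1,73,true),
  ((1,2,15,11),1,1,73,true),
  ((0,0,0,0),0,0,0,false),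
  ((0,0,0,0),0,0,0,false),
  ((0,0,0,0),0,0,0,false),
  ((0,0,0,0),0,0,0,false),
  ((0,0,0,0),0,0,0,false),
  ((0,0,0,0),0,0,0,false),
  ((0,0,0,0),0,0,0,false),
  ((0,0,0,0),0,0,0,false),
  ((1,2,8,13),4,8,84,true),
  ((1,2,9,12),4,8,168,true),
  ((0,0,0,0),0,0,0,false),
  ((1,2,11,14),4,9,86,true),
  ((1,2,13,8),1,1,73,true),
  ((1,2,12,9),1,1,73,true),
  ((1,2,15,10),1,1,73,true),
  ((1,2,14,11),1,1,73,true),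
  ((0,0,0,0),0,0,0,false),
  ((0,0,0,0),0,0,0,false),
  ((0,0,0,0),0,0,0,false),
  ((0,0,0,0),0,0,0,false),
  ((0,0,0,0),0,0,0,false),
  ((0,0,0,0),0,0,0,false),
  ((0,0,0,0),0,0,0,false),
  ((0,0,0,0),0,0,0,false),
  ((1,2,8,14),4,8,85,true),
  ((1,2,9,15),4,9,73,true),
  ((1,2,10,12),4,8,169,true),
  ((0,0,0,0),0,0,0,false),
  ((1,2,14,8),1,1,73,true),
  ((1,2,15,9),1,1,73,true),
  ((1,2,12,10),1,1,73,true),
  ((1,2,13,11),1,1,73,true),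
  ((0,0,0,0),0,0,0,false),
  ((0,0,0,0),0,0,0,false),
  ((0,0,0,0),0,0,0,false),
  ((0,0,0,0),0,0,0,false),
  ((0,0,0,0),0,0,0,false),
  ((0,0,0,0),0,0,0,false),
  ((0,0,0,0),0,0,0,false),
  ((0,0,0,0),0,0,0,false),
  ((1,2,8,15),4,8,86,true),
  ((0,0,0,0),0,0,0,false),
  ((1,2,10,13),4,9,168,true),
  ((1,2,11,12),4,8,170,true),
  ((1,2,15,8),1,1,73,true),
  ((1,2,14,9),1,1,73,true),
  ((1,2,13,10),1,1,73,true),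
  ((1,2,12,11),1,1,73,true),
  ((0,0,0,0),0,0,0,false),
  ((0,0,0,0),0,0,0,false),
  ((0,0,0,0),0,0,0,false),
  ((0,0,0,0),0,0,0,false),
  ((0,0,0,0),0,0,0,false),
  ((0,0,0,0),0,0,0,false),
  ((0,0,0,0),0,0,0,false),
  ((0,0,0,0),0,0,0,false),
  ((0,0,0,0),0,0,0,false),
  ((0,0,0,0),0,0,0,false),
  ((0,0,0,0),0,0,0,false),
  ((0,0,0,0),0,0,0,false),
  ((0,0,0,0),0,0,0,false),
  ((0,0,0,0),0,0,0,false),
  ((0,0,0,0),0,0,0,false),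
  ((0,0,0,0),0,0,0,false),
  ((0,0,0,0),0,0,0,false),
  ((0,0,0,0),0,0,0,false),
  ((0,0,0,0),0,0,0,false),
  ((0,0,0,0),0,0,0,false),
  ((0,0,0,0),0,0,0,false),
  ((0,0,0,0),0,0,0,false),
  ((0,0,0,0),0,0,0,false),
  ((0,0,0,0),0,0,0,false),
  ((0,0,0,0),0,0,0,false),
  ((0,0,0,0),0,0,0,false),
  ((0,0,0,0),0,0,0,false),
  ((0,0,0,0),0,0,0,false),
  ((0,0,0,0),0,0,0,false),
  ((0,0,0,0),0,0,0,false),
  ((0,0,0,0),0,0,0,false),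
  ((0,0,0,0),0,0,0,false),
  ((0,0,0,0),0,0,0,false),
  ((0,0,0,0),0,0,0,false),
  ((0,0,0,0),0,0,0,false),
  ((0,0,0,0),0,0,0,false),
  ((0,0,0,0),0,0,0,false),
  ((0,0,0,0),0,0,0,false),
  ((0,0,0,0),0,0,0,false),
  ((0,0,0,0),0,0,0,false),
  ((0,0,0,0),0,0,0,false),
  ((0,0,0,0),0,0,0,false),
  ((0,0,0,0),0,0,0,false),
  ((0,0,0,0),0,0,0,false),
  ((1,4,2,8),4,21,29,true),
  ((1,4,2,9),28,84,86,true),
  ((1,4,2,12),1,12,168,true),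
  ((1,4,2,13),1,12,168,true),
  ((1,4,2,10),12,1,168,true),
  ((1,4,2,11),12,1,168,true),
  ((1,4,2,14),1,12,168,true),
  ((1,4,2,15),1,12,168,true),
  ((0,0,0,0),0,0,0,false),
  ((0,0,0,0),0,0,0,false),
  ((0,0,0,0),0,0,0,false),
  ((0,0,0,0),0,0,0,false),
  ((0,0,0,0),0,0,0,false),
  ((0,0,0,0),0,0,0,false),
  ((0,0,0,0),0,0,0,false),
  ((0,0,0,0),0,0,0,false),
  ((1,5,2,8),12,1,168,true),
  ((1,5,2,9),12,1,168,true),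
  ((1,5,2,13),1,12,168,true),
  ((1,5,2,12),1,12,168,true),
  ((1,5,2,10),4,17,29,true),
  ((1,5,2,11),28,84,86,true),
  ((1,5,2,15),1,12,168,true),
  ((1,5,2,14),1,12,168,true),
  ((0,0,0,0),0,0,0,false),
  ((0,0,0,0),0,0,0,false),
  ((0,0,0,0),0,0,0,false),
  ((0,0,0,0),0,0,0,false),
  ((0,0,0,0),0,0,0,false),
  ((0,0,0,0),0,0,0,false),
  ((0,0,0,0),0,0,0,false),
  ((0,0,0,0),0,0,0,false),
  ((0,0,0,0),0,0,0,false),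
  ((0,0,0,0),0,0,0,false),
  ((0,0,0,0),0,0,0,false),
  ((0,0,0,0),0,0,0,false),
  ((0,0,0,0),0,0,0,false),
  ((0,0,0,0),0,0,0,false),
  ((0,0,0,0),0,0,0,false),
  ((0,0,0,0),0,0,0,false),
  ((0,0,0,0),0,0,0,false),
  ((0,0,0,0),0,0,0,false),
  ((0,0,0,0),0,0,0,false),
  ((0,0,0,0),0,0,0,false),
  ((0,0,0,0),0,0,0,false),
  ((0,0,0,0),0,0,0,false),
  ((0,0,0,0),0,0,0,false),
  ((0,0,0,0),0,0,0,false),
  ((0,0,0,0),0,0,0,false),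
  ((0,0,0,0),0,0,0,false),
  ((0,0,0,0),0,0,0,false),
  ((0,0,0,0),0,0,0,false),
  ((0,0,0,0),0,0,0,false),
  ((0,0,0,0),0,0,0,false),
  ((0,0,0,0),0,0,0,false),
  ((0,0,0,0),0,0,0,false),
  ((0,0,0,0),0,0,0,false),
  ((0,0,0,0),0,0,0,false),
  ((0,0,0,0),0,0,0,false),
  ((0,0,0,0),0,0,0,false),
  ((0,0,0,0),0,0,0,false),
  ((0,0,0,0),0,0,0,false),
  ((0,0,0,0),0,0,0,false),
  ((0,0,0,0),0,0,0,false),
  ((1,6,2,8),12,13,168,true),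
  ((1,6,2,9),12,13,168,true),
  ((1,6,2,14),1,12,168,true),
  ((1,6,2,15),1,12,168,true),
  ((1,6,2,10),28,72,86,true),
  ((1,6,2,11),4,5,28,true),
  ((1,6,2,12),1,12,168,true),
  ((1,6,2,13),1,12,168,true),
  ((0,0,0,0),0,0,0,false),
  ((0,0,0,0),0,0,0,false),
  ((0,0,0,0),0,0,0,false),
  ((0,0,0,0),0,0,0,false),
  ((0,0,0,0),0,0,0,false),
  ((0,0,0,0),0,0,0,false),
  ((0,0,0,0),0,0,0,false),
  ((0,0,0,0),0,0,0,false),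
  ((1,7,2,8),28,72,86,true),
  ((1,7,2,9),4,9,28,true),
  ((1,7,2,15),1,12,168,true),
  ((1,7,2,14),1,12,168,true),
  ((1,7,2,10),12,13,168,true),
  ((1,7,2,11),12,13,168,true),
  ((1,7,2,13),1,12,168,true),
  ((1,7,2,12),1,12,168,true),
  ((0,0,0,0),0,0,0,false),
  ((0,0,0,0),0,0,0,false),
  ((1,8,2,4),1,12,86,true),
  ((1,9,2,4),1,12,86,true),
  ((0,0,0,0),0,0,0,false),
  ((0,0,0,0),0,0,0,false),
  ((1,10,2,4),1,12,86,true),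
  ((1,11,2,4),1,12,86,true),
  ((0,0,0,0),0,0,0,false),
  ((0,0,0,0),0,0,0,false),
  ((1,12,2,4),4,21,25,true),
  ((1,13,2,4),12,20,25,true),
  ((0,0,0,0),0,0,0,false),
  ((0,0,0,0),0,0,0,false),
  ((1,14,2,4),16,13,84,true),
  ((1,15,2,4),24,89,136,false),
  ((0,0,0,0),0,0,0,false),
  ((0,0,0,0),0,0,0,false),
  ((1,8,2,5),1,12,86,true),
  ((1,9,2,5),1,12,86,true),
  ((0,0,0,0),0,0,0,false),
  ((0,0,0,0),0,0,0,false),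
  ((1,10,2,5),1,12,86,true),
  ((1,11,2,5),1,12,86,true),
  ((0,0,0,0),0,0,0,false),
  ((0,0,0,0),0,0,0,false),
  ((1,13,2,5),16,1,84,true),
  ((1,12,2,5),24,88,112,false),
  ((0,0,0,0),0,0,0,false),
  ((0,0,0,0),0,0,0,false),
  ((1,15,2,5),4,9,24,true),
  ((1,14,2,5),12,20,24,true),
  ((0,0,0,0),0,0,0,false),
  ((0,0,0,0),0,0,0,false),
  ((1,8,2,12),4,21,33,true),
  ((1,9,2,13),12,22,25,true),
  ((0,0,0,0),0,0,0,false),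
  ((0,0,0,0),0,0,0,false),
  ((1,10,2,14),24,72,170,true),
  ((1,11,2,15),16,16,32,true),
  ((1,12,2,8),1,12,73,true),
  ((1,13,2,9),1,12,73,true),
  ((0,0,0,0),0,0,0,false),
  ((0,0,0,0),0,0,0,false),
  ((1,14,2,10),1,12,73,true),
  ((1,15,2,11),1,12,73,true),
  ((0,0,0,0),0,0,0,false),
  ((0,0,0,0),0,0,0,false),
  ((0,0,0,0),0,0,0,false),
  ((0,0,0,0),0,0,0,false),
  ((1,8,2,13),24,84,170,true),
  ((1,9,2,12),16,20,33,true),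
  ((0,0,0,0),0,0,0,false),
  ((0,0,0,0),0,0,0,false),
  ((1,10,2,15),4,5,32,true),
  ((1,11,2,14),12,22,24,true),
  ((1,13,2,8),1,12,73,true),
  ((1,12,2,9),1,12,73,true),
  ((0,0,0,0),0,0,0,false),
  ((0,0,0,0),0,0,0,false),
  ((1,15,2,10),1,12,73,true),
  ((1,14,2,11),1,12,73,true),
  ((0,0,0,0),0,0,0,false),
  ((0,0,0,0),0,0,0,false),
  ((0,0,0,0),0,0,0,false),
  ((0,0,0,0),0,0,0,false),
  ((1,8,2,6),1,12,86,true),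
  ((1,9,2,6),1,12,86,true),
  ((0,0,0,0),0,0,0,false),
  ((0,0,0,0),0,0,0,false),
  ((1,10,2,6),1,12,86,true),
  ((1,11,2,6),1,12,86,true),
  ((0,0,0,0),0,0,0,false),
  ((0,0,0,0),0,0,0,false),
  ((1,14,2,6),24,88,136,false),
  ((1,15,2,6),16,13,84,true),
  ((0,0,0,0),0,0,0,false),
  ((0,0,0,0),0,0,0,false),
  ((1,12,2,6),12,16,25,true),
  ((1,13,2,6),4,17,25,true),
  ((0,0,0,0),0,0,0,false),
  ((0,0,0,0),0,0,0,false),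
  ((1,8,2,7),1,12,86,true),
  ((1,9,2,7),1,12,86,true),
  ((0,0,0,0),0,0,0,false),
  ((0,0,0,0),0,0,0,false),
  ((1,10,2,7),1,12,86,true),
  ((1,11,2,7),1,12,86,true),
  ((0,0,0,0),0,0,0,false),
  ((0,0,0,0),0,0,0,false),
  ((1,15,2,7),12,16,24,true),
  ((1,14,2,7),4,5,24,true),
  ((0,0,0,0),0,0,0,false),
  ((0,0,0,0),0,0,0,false),
  ((1,13,2,7),24,89,112,false),
  ((1,12,2,7),16,1,84,true),
  ((0,0,0,0),0,0,0,false),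
  ((0,0,0,0),0,0,0,false),
  ((1,8,2,14),16,16,33,true),
  ((1,9,2,15),24,84,170,true),
  ((0,0,0,0),0,0,0,false),
  ((0,0,0,0),0,0,0,false),
  ((1,10,2,12),12,19,24,true),
  ((1,11,2,13),4,9,32,true),
  ((1,14,2,8),1,12,73,true),
  ((1,15,2,9),1,12,73,true),
  ((0,0,0,0),0,0,0,false),
  ((0,0,0,0),0,0,0,false),
  ((1,12,2,10),1,12,73,true),
  ((1,13,2,11),1,12,73,true),
  ((0,0,0,0),0,0,0,false),
  ((0,0,0,0),0,0,0,false),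
  ((0,0,0,0),0,0,0,false),
  ((0,0,0,0),0,0,0,false),
  ((1,8,2,15),12,19,25,true),
  ((1,9,2,14),4,17,33,true),
  ((0,0,0,0),0,0,0,false),
  ((0,0,0,0),0,0,0,false),
  ((1,10,2,13),16,20,32,true),
  ((1,11,2,12),24,72,170,true),
  ((1,15,2,8),1,12,73,true),
  ((1,14,2,9),1,12,73,true),
  ((0,0,0,0),0,0,0,false),
  ((0,0,0,0),0,0,0,false),
  ((1,13,2,10),1,12,73,true),
  ((1,12,2,11),1,12,73,true),
  ((0,0,0,0),0,0,0,false),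
  ((0,0,0,0),0,0,0,false)]

def tlTab : List (ℕ × ℕ) := [(0,0),(0,0),(0,0),(0,0),(0,0),(0,0),(0,0),(0,0),(0,0),(0,0),(0,0),(0,0),(0,0),(0,0),(0,0),(0,0),(0,0),(0,0),(0,360),(0,0),(0,102),(0,0),(102,360),(0,0),(0,99),(0,0),(99,360),(0,0),(0,105),(0,0),(105,360),(0,0),(0,0),(24,360),(0,0),(0,0),(24,123),(123,360),(0,0),(0,0),(24,129),(129,360),(0,0),(0,0),(24,126),(126,360),(0,0),(0,0),(0,0),(0,0),(0,0),(12,360),(12,114),(0,0),(0,0),(114,360),(12,117),(0,0),(0,0),(117,360),(12,111),(0,0),(0,0),(111,360),(0,0),(24,27),(0,1),(12,15),(0,0),(0,0),(0,0),(0,0),(72,360),(81,360),(75,360),(78,360),(0,0),(0,0),(0,0),(0,0),(0,0),(0,0),(1,360),(0,0),(0,0),(1,106),(0,0),(106,360),(96,360),(0,0),(1,96),(0,0),(0,0),(103,360),(0,0),(1,103),(0,0),(27,360),(0,0),(0,0),(0,0),(0,0),(127,360),(27,127),(120,360),(27,120),(0,0),(0,0),(0,0),(0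,0),(27,124),(124,360),(0,0),(0,0),(0,0),(15,360),(0,0),(113,360),(15,113),(0,0),(110,360),(0,0),(0,0),(15,110),(0,0),(15,116),(116,360),(0,0),(0,0),(24,26),(0,2),(12,14),(73,360),(76,360),(79,360),(82,360),(0,0),(0,0),(0,0),(0,0),(0,0),(0,0),(0,0),(0,0),(0,0),(0,0),(2,360),(0,0),(97,360),(0,0),(2,97),(0,0),(0,0),(107,360),(0,0),(2,107),(0,0),(2,100),(0,0),(100,360),(0,0),(26,360),(0,0),(0,0),(121,360),(26,121),(0,0),(0,0),(0,0),(0,0),(26,128),(128,360),(0,0),(0,0),(130,360),(26,130),(0,0),(0,0),(0,0),(14,360),(109,360),(0,0),(0,0),(14,109),(0,0),(14,112),(112,360),(0,0),(0,0),(119,360),(14,119),(0,0),(0,0),(24,25),(0,3),(12,13),(0,0),(0,0),(0,0),(0,0),(0,0),(0,0),(0,0),(0,0),(74,360),(80,360),(83,360),(77,360),(0,0),(0,0),(3,360),(0,0),(0,0),(101,360),(0,0),(3,101),(0,0),(3,104),(0,0),(104,360),(98,360),(0,0),(3,98),(0,0),(0,0),(25,360),(0,0),(0,0),(0,0),(0,0),(25,131),(131,360),(0,0),(0,0),(125,360),(25,125),(122,360),(25,122),(0,0),(0,0),(0,0),(0,0),(0,0),(13,360),(0,0),(13,118),(118,360),(0,0),(0,0),(115,360),(13,115),(0,0),(108,360),(0,0),(0,0),(13,108)]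

def nl (i : ℕ) : Code × Code := NL.getD i (one, one)

def sing (z : Code) : Bool :=
  (List.range 16).any fun v => decide (v ≠ 0) && decide (rmul v z = 0)

def caseOK (z : Code) (c : Code × ℕ × ℕ × ℕ × Bool) : Bool :=
  valid (nl c.2.1) && valid (nl c.2.2.1) && valid (nl c.2.2.2.1) &&
  decide (mulC z c.1 = one) && decide (mulC c.1 z = one) &&
  decide (mulC (mulC (nl c.2.2.2.1).1 (mulC (mulC (mulC (nl c.2.1).1 z) (nl c.2.2.1).1) c.1))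
    (nl c.2.2.2.1).2 = (bif c.2.2.2.2 then tI else tstar))

def cj (e : Code × Code) (t : Code) : Code := mulC (mulC e.1 t) e.2

def tlOK (a p : ℕ) (c : ℕ × ℕ) : Bool :=
  decide (tv a p = one) ||
  (valid (nl c.1) && valid (nl c.2) &&
    decide ((bif decide (c.2 = 360) then cj (nl c.1) tstar
      else mulC (cj (nl c.1) tstar) (cj (nl c.2) tstar)) = tv a p))

def chkTN : Bool :=
  (List.range 16).all fun r0 => (List.range 16).all fun r1 =>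
    decide (r0 = 0) || decide (r1 = 0) || decide (r0 = r1) ||
      (valid (nl (tabN.getD (16 * r0 + r1) 0)) &&
        decide (rmul r0 (nl (tabN.getD (16 * r0 + r1) 0)).1 = 1) &&
        (decide (rmul r1 (nl (tabN.getD (16 * r0 + r1) 0)).1 = 2) ||
          decide (rmul r1 (nl (tabN.getD (16 * r0 + r1) 0)).1 = 4)))

def chkCL : Bool :=
  (List.range 2).all fun b => (List.range 16).all fun s2 => (List.range 16).all fun s3 =>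
    sing (1, 2 + 2 * b, s2, s3) || isNJ (1, 2 + 2 * b, s2, s3) ||
      caseOK (1, 2 + 2 * b, s2, s3)
        (caseTab.getD (256 * b + 16 * s2 + s3) ((0, 0, 0, 0), 0, 0, 0, false))

def chkI2 : Bool :=
  valid (nl 5) && valid (nl 120) &&
    decide (cj (nl 120) (mulC (mulC (cj (nl 5) tI) tI) (cj (nl 5) tI)) = tstar)

def par (a p : ℕ) : Bool :=
  ((a &&& p).testBit 0 ^^ (a &&& p).testBit 1) ^^ ((a &&& p).testBit 2 ^^ (a &&& p).testBit 3)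

def chkTL : Bool :=
  (List.range 16).all fun a => (List.range 16).all fun p =>
    par a p || tlOK a p (tlTab.getD (16 * a + p) (0, 0))

theorem chkTN_true : chkTN = true := by decide +kernel
theorem chkCL_true : chkCL = true := by decide +kernel
theorem chkI2_true : chkI2 = true := by decide +kernel
theorem chkTL_true : chkTL = true := by decide +kernel

end Cfsg.Agent.Helper9.C3D
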