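import Mathlib
import Cfsg.Agent.Helper98.C3A
import Cfsg.Agent.Helper9.C3Tab

set_option autoImplicit false
set_option linter.unusedSectionVars false
set_option linter.unusedVariables false
set_option linter.unusedSimpArgs false
set_option linter.style.haveILetI false

namespace Cfsg.Agent.Helper9.C3D

theorem cb_xor (a b : Bool) : cb (a ^^ b) = cb a + cb b := by cases a <;> cases b <;> decide
theorem cb_and (a b : Bool) : cb (a && b) = cb a * cb b := by cases a <;> cases b <;> decide

theorem decRow_xor (a b : ℕ) : decRow (a ^^^ b) = decRow a + decRow b := by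
  funext j
  simp [decRow, Nat.testBit_xor, cb_xor]

theorem decRow_zero : decRow 0 = 0 := by
  funext j
  simp [decRow, cb]

theorem decRow_sel (r k z : ℕ) : decRow (sel r k z) = cb (r.testBit k) • decRow z := by
  unfold sel
  cases h : r.testBit k
  · simp [decRow_zero, cb]
  · simp [cb]

theorem decRow_rmul (r : ℕ) (y : Code) :
    decRow (rmul r y) = Matrix.vecMul (decRow r) (dec y) := by
  funext j
  simp only [rmul, decRow_xor, decRow_sel, Matrix.vecMul, dotProduct, Fin.sum_univ_four, dec,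
    Pi.add_apply, Pi.smul_apply, smul_eq_mul, Matrix.of_apply]
  rfl

theorem dec_mul (x y : Code) : dec (mulC x y) = dec x * dec y := by
  ext i j
  have h : ∀ i : Fin 4, dec (mulC x y) i = Matrix.vecMul (dec x i) (dec y) := by
    intro i
    fin_cases i
    · exact decRow_rmul x.1 y
    · exact decRow_rmul x.2.1 y
    · exact decRow_rmul x.2.2.1 y
    · exact decRow_rmul x.2.2.2 y
  rw [h i]
  rfl

theorem dec_one : dec one = 1 := by decide

def encRow (v : Fin 4 → ZMod 2) : ℕ :=
  (v 0).val + 2 * (v 1).val + 4 * (v 2).val + 8 * (v 3).val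

def enc (M : M4) : Code := (encRow (M 0), encRow (M 1), encRow (M 2), encRow (M 3))

theorem decRow_encRow_aux : ∀ a b c d : ZMod 2, decRow (encRow ![a, b, c, d]) = ![a, b, c, d] := by
  decide

theorem decRow_encRow (v : Fin 4 → ZMod 2) : decRow (encRow v) = v := by
  have h : v = ![v 0, v 1, v 2, v 3] := by
    funext j; fin_cases j <;> rfl
  rw [h]
  exact decRow_encRow_aux _ _ _ _

theorem encRow_lt_aux : ∀ a b c d : ZMod 2, encRow ![a, b, c, d] < 16 := by decide

theorem encRow_lt (v : Fin 4 → ZMod 2) : encRow v < 16 := by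
  have h : v = ![v 0, v 1, v 2, v 3] := by
    funext j; fin_cases j <;> rfl
  rw [h]
  exact encRow_lt_aux _ _ _ _

theorem dec_enc (M : M4) : dec (enc M) = M := by
  ext i j
  fin_cases i
  · exact congrFun (decRow_encRow (M 0)) j
  · exact congrFun (decRow_encRow (M 1)) j
  · exact congrFun (decRow_encRow (M 2)) j
  · exact congrFun (decRow_encRow (M 3)) j

theorem decRow_eq_zero : ∀ v < 16, decRow v = 0 → v = 0 := by decide

theorem dec_tv_aux : ∀ a < 16, ∀ p < 16,
    dec (tv a p) = 1 + Matrix.vecMulVec (decRow a) (decRow p) := by decide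

theorem par_aux : ∀ a < 16, ∀ p < 16, decRow a ⬝ᵥ decRow p = 0 → par a p = false := by decide

theorem dec_cJ : dec cJ = !![0,1,0,0; 1,1,0,0; 0,0,0,1; 0,0,1,1] := by decide
theorem dec_cJ2 : dec cJ2 = dec cJ * dec cJ := by decide
theorem enc_dec_lit : encRow (decRow 1) = 1 ∧ encRow (decRow 2) = 2 ∧ encRow (decRow 4) = 4 := by
  decide

theorem isNJ_dec (x : Code) (h : isNJ x = true) :
    dec x * dec cJ = dec cJ * dec x ∨ dec x * dec cJ = dec cJ * dec cJ * dec x := by
  simp only [isNJ, Bool.or_eq_true, decide_eq_true_eq] at h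
  rcases h with h | h
  · left; rw [← dec_mul, ← dec_mul, h]
  · right; rw [← dec_cJ2, ← dec_mul, ← dec_mul, h]

theorem valid_iff (e : Code × Code) (h : valid e = true) :
    isNJ e.1 = true ∧ isNJ e.2 = true ∧ mulC e.1 e.2 = one ∧ mulC e.2 e.1 = one := by
  simp only [valid, Bool.and_eq_true, decide_eq_true_eq] at h
  exact ⟨h.1.1.1, h.1.1.2, h.1.2, h.2⟩

section glue
open Module Cfsg.Agent.Helper98

variable {F K V : Type*} [Field F] [Field K] [Algebra F K] [AddCommGroup V] [Module F V]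
  [Module K V] [IsScalarTower F K V]

theorem f_cases [Fintype F] (hF : Fintype.card F = 2) (x : F) : x = 0 ∨ x = 1 := by
  classical
  have h : ({0, 1} : Finset F) = Finset.univ := by
    apply Finset.eq_univ_of_card
    rw [Finset.card_pair zero_ne_one, hF]
  have := Finset.mem_univ x
  rw [← h] at this
  simpa using this

theorem f_two [Fintype F] (hF : Fintype.card F = 2) : (1 : F) + 1 = 0 := by
  rcases f_cases hF (1 + 1 : F) with h | h
  · exact h
  · exfalso
    have : (1 : F) = 0 := by linear_combination h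
    exact one_ne_zero this

noncomputable def phi (ψ : ZMod 2 ≃+* F) (b : Basis (Fin 4) F V) : M4 ≃+* Module.End F V :=
  (RingEquiv.mapMatrix ψ).trans (Matrix.toLinAlgEquiv b).toRingEquiv

theorem phi_basis (ψ : ZMod 2 ≃+* F) (b : Basis (Fin 4) F V) (M : M4) (j : Fin 4) :
    phi ψ b M (b j) = ∑ i, ψ (M i j) • b i := by
  simp [phi, Matrix.toLinAlgEquiv_self]

theorem phi_J (ψ : ZMod 2 ≃+* F) (b : Basis (Fin 4) F V) (ω : K)
    (hb0 : ω • b 0 = b 1) (hb1 : ω • b 1 = b 0 + b 1) (hb2 : ω • b 2 = b 3)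
    (hb3 : ω • b 3 = b 2 + b 3) : phi ψ b (dec cJ) = c3_sm F ω := by
  apply b.ext
  intro j
  rw [phi_basis, dec_cJ, c3_sm_apply]
  fin_cases j <;> simp [Fin.sum_univ_four, hb0, hb1, hb2, hb3]

theorem N_of_isNJ (ψ : ZMod 2 ≃+* F) (b : Basis (Fin 4) F V) (ω : K)
    (hφJ : phi ψ b (dec cJ) = c3_sm F ω)
    (hk : ∀ k : K, ∃ r s : F, k = r • (1 : K) + s • ω)
    (M M' : M4) (h1 : M * M' = 1) (h2 : M' * M = 1)
    (hJ : M * dec cJ = dec cJ * M ∨ M * dec cJ = dec cJ * dec cJ * M) :
    c3_N K (phi ψ b M) := by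
  refine ⟨⟨phi ψ b M', by rw [← map_mul, h1, map_one], by rw [← map_mul, h2, map_one]⟩, ?_⟩
  have key : ∃ ω' : K, ∀ v, phi ψ b M (ω • v) = ω' • phi ψ b M v := by
    rcases hJ with hJ | hJ
    · refine ⟨ω, fun v => ?_⟩
      have := congrArg (fun A => phi ψ b A v) hJ
      simpa [map_mul, hφJ] using this
    · refine ⟨ω * ω, fun v => ?_⟩
      have := congrArg (fun A => phi ψ b A v) hJ
      simpa [map_mul, hφJ, mul_smul] using this
  obtain ⟨ω', hω'⟩ := key
  intro k
  obtain ⟨r, s, rfl⟩ := hk k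
  refine ⟨r • 1 + s • ω', fun v => ?_⟩
  simp only [add_smul, smul_assoc, one_smul, map_add, map_smul, hω']

theorem phi_tv (ψ : ZMod 2 ≃+* F) (b : Basis (Fin 4) F V) (a : V) (φ : V →ₗ[F] F) :
    phi ψ b (1 + Matrix.vecMulVec (fun i => ψ.symm (b.repr a i)) (fun j => ψ.symm (φ (b j))))
      = 1 + c3_tv φ a := by
  rw [map_add, map_one]
  congr 1
  apply b.ext
  intro j
  rw [phi_basis, c3_tv_apply]
  simp only [Matrix.vecMulVec_apply, map_mul, RingEquiv.apply_symm_apply]
  conv_rhs => rw [← b.sum_repr a]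
  rw [Finset.smul_sum]
  refine Finset.sum_congr rfl fun i _ => ?_
  rw [smul_smul, mul_comm]

theorem dot_tv (ψ : ZMod 2 ≃+* F) (b : Basis (Fin 4) F V) (a : V) (φ : V →ₗ[F] F)
    (h : φ a = 0) :
    (fun i => ψ.symm (b.repr a i)) ⬝ᵥ (fun j => ψ.symm (φ (b j))) = 0 := by
  have h0 : ψ.symm (φ a) = 0 := by rw [h, map_zero]
  rw [← h0]
  have h1 : φ a = ∑ i, b.repr a i * φ (b i) := by
    calc φ a = φ (∑ i, b.repr a i • b i) := by rw [b.sum_repr]
      _ = ∑ i, b.repr a i * φ (b i) := by
        rw [map_sum]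
        simp only [map_smul, smul_eq_mul]
  rw [h1, map_sum]
  simp [dotProduct, map_mul]


theorem main_of_basis (ψ : ZMod 2 ≃+* F) (b : Basis (Fin 4) F V) (ω : K)
    (hb0 : ω • b 0 = b 1) (hb1 : ω • b 1 = b 0 + b 1) (hb2 : ω • b 2 = b 3)
    (hb3 : ω • b 3 = b 2 + b 3)
    (hk : ∀ k : K, ∃ r s : F, k = r • (1 : K) + s • ω)
    {P : Module.End F V → Prop} (hP : C3P P)
    (hN : ∀ f : Module.End F V, c3_N K f → P f)
    (f₀ g₀ : Module.End F V) (hf₀ : P f₀) (h1 : f₀ * g₀ = 1) (h2 : g₀ * f₀ = 1)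
    (hnN : ¬ c3_N K f₀) :
    ∀ (a : V) (φ : V →ₗ[F] F), φ a = 0 → P (1 + c3_tv φ a) := by
  have hΦJ : phi ψ b (dec cJ) = c3_sm F ω := phi_J ψ b ω hb0 hb1 hb2 hb3
  have qmul : ∀ x y : Code, P (phi ψ b (dec x)) → P (phi ψ b (dec y)) →
      P (phi ψ b (dec (mulC x y))) := by
    intro x y hx hy
    rw [dec_mul, map_mul]
    exact hP.mul _ _ hx hy
  have qinv : ∀ x y : Code, P (phi ψ b (dec x)) → mulC x y = one → mulC y x = one →
      P (phi ψ b (dec y)) := by
    intro x y hx h h'
    refine hP.inv (phi ψ b (dec x)) (phi ψ b (dec y)) hx ?_ ?_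
    · rw [← map_mul, ← dec_mul, h, dec_one, map_one]
    · rw [← map_mul, ← dec_mul, h', dec_one, map_one]
  have nval : ∀ e : Code × Code, valid e = true →
      c3_N K (phi ψ b (dec e.1)) ∧ c3_N K (phi ψ b (dec e.2)) := by
    intro e he
    obtain ⟨hj1, hj2, hm1, hm2⟩ := valid_iff e he
    have e1 : dec e.1 * dec e.2 = 1 := by rw [← dec_mul, hm1, dec_one]
    have e2 : dec e.2 * dec e.1 = 1 := by rw [← dec_mul, hm2, dec_one]
    exact ⟨N_of_isNJ ψ b ω hΦJ hk _ _ e1 e2 (isNJ_dec _ hj1),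
      N_of_isNJ ψ b ω hΦJ hk _ _ e2 e1 (isNJ_dec _ hj2)⟩
  have qgen : ∀ e : Code × Code, valid e = true →
      P (phi ψ b (dec e.1)) ∧ P (phi ψ b (dec e.2)) := fun e he =>
    ⟨hN _ (nval e he).1, hN _ (nval e he).2⟩
  have qcj : ∀ (e : Code × Code) (t : Code), valid e = true → P (phi ψ b (dec t)) →
      P (phi ψ b (dec (cj e t))) := fun e t he ht =>
    qmul _ _ (qmul _ _ (qgen e he).1 ht) (qgen e he).2
  have qone : P (phi ψ b (dec one)) := by
    rw [dec_one, map_one]
    exact hP.one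
  -- the matrix of `f₀`
  set M₀ : M4 := (phi ψ b).symm f₀ with hM₀
  set M₀' : M4 := (phi ψ b).symm g₀ with hM₀'
  have hM : M₀ * M₀' = 1 := by rw [hM₀, hM₀', ← map_mul, h1, map_one]
  have hM' : M₀' * M₀ = 1 := by rw [hM₀, hM₀', ← map_mul, h2, map_one]
  have hx₀ : dec (enc M₀) = M₀ := dec_enc M₀
  have hQx₀ : P (phi ψ b (dec (enc M₀))) := by
    rw [hx₀, hM₀, RingEquiv.apply_symm_apply]
    exact hf₀
  have hr0 : encRow (M₀ 0) ≠ 0 := by
    intro h
    have hrow : M₀ 0 = 0 := by rw [← decRow_encRow (M₀ 0), h, decRow_zero]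
    have h3 : (M₀ * M₀') 0 0 = 0 := by simp [Matrix.mul_apply, hrow]
    rw [hM] at h3
    simp at h3
  have hr1 : encRow (M₀ 1) ≠ 0 := by
    intro h
    have hrow : M₀ 1 = 0 := by rw [← decRow_encRow (M₀ 1), h, decRow_zero]
    have h3 : (M₀ * M₀') 1 1 = 0 := by simp [Matrix.mul_apply, hrow]
    rw [hM] at h3
    simp at h3
  have hr01 : encRow (M₀ 0) ≠ encRow (M₀ 1) := by
    intro h
    have hrow : M₀ 0 = M₀ 1 := by rw [← decRow_encRow (M₀ 0), h, decRow_encRow]
    have h3 : (M₀ * M₀') 0 0 = (M₀ * M₀') 1 0 := by simp [Matrix.mul_apply, hrow]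
    rw [hM] at h3
    simp at h3
  -- normalisation of the first two rows
  have hTN := chkTN_true
  simp only [chkTN, List.all_eq_true, List.mem_range, Bool.or_eq_true, Bool.and_eq_true,
    decide_eq_true_eq] at hTN
  have hTN' := hTN _ (encRow_lt (M₀ 0)) _ (encRow_lt (M₀ 1))
  set e := nl (tabN.getD (16 * encRow (M₀ 0) + encRow (M₀ 1)) 0) with he
  rcases hTN' with ((h | h) | h) | ⟨⟨hval, hrow0⟩, hrow1⟩
  · exact absurd h hr0
  · exact absurd h hr1
  · exact absurd h hr01
  obtain ⟨hj1, hj2, hm1, hm2⟩ := valid_iff e hval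
  have e1 : dec e.1 * dec e.2 = 1 := by rw [← dec_mul, hm1, dec_one]
  have e2 : dec e.2 * dec e.1 = 1 := by rw [← dec_mul, hm2, dec_one]
  set z : Code := mulC (enc M₀) e.1 with hz
  have hQz : P (phi ψ b (dec z)) := qmul _ _ hQx₀ (qgen e hval).1
  have hdz : dec z = M₀ * dec e.1 := by rw [hz, dec_mul, hx₀]
  have hz1 : z.1 = 1 := hrow0
  have hz2 : z.2.1 = 2 ∨ z.2.1 = 4 := hrow1
  set z' : Code := enc (dec z) with hz'
  have hdz' : dec z' = M₀ * dec e.1 := by rw [hz', dec_enc, hdz]
  have hQz' : P (phi ψ b (dec z')) := by rw [hdz', ← hdz]; exact hQz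
  have hinv1 : dec z' * (dec e.2 * M₀') = 1 := by
    rw [hdz']
    calc M₀ * dec e.1 * (dec e.2 * M₀') = M₀ * (dec e.1 * dec e.2) * M₀' := by
          simp only [mul_assoc]
      _ = 1 := by rw [e1, mul_one, hM]
  have hinv2 : (dec e.2 * M₀') * dec z' = 1 := by
    rw [hdz']
    calc dec e.2 * M₀' * (M₀ * dec e.1) = dec e.2 * (M₀' * M₀) * dec e.1 := by
          simp only [mul_assoc]
      _ = 1 := by rw [hM', mul_one, e2]
  have hz'eq : z' = (encRow (decRow z.1), encRow (decRow z.2.1), encRow (decRow z.2.2.1),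
      encRow (decRow z.2.2.2)) := rfl
  obtain ⟨hl1, hl2, hl4⟩ := enc_dec_lit
  have hCL := chkCL_true
  simp only [chkCL, List.all_eq_true, List.mem_range, Bool.or_eq_true] at hCL
  have hstar : P (phi ψ b (dec tstar)) := by
    have hform : ∃ bb < 2, z' = (1, 2 + 2 * bb, encRow (decRow z.2.2.1),
        encRow (decRow z.2.2.2)) := by
      rcases hz2 with h | h
      · exact ⟨0, by norm_num, by rw [hz'eq, hz1, h, hl1, hl2]⟩
      · exact ⟨1, by norm_num, by rw [hz'eq, hz1, h, hl1, hl4]⟩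
    obtain ⟨bb, hbb, hzf⟩ := hform
    have hc := hCL bb hbb _ (encRow_lt (decRow z.2.2.1)) _ (encRow_lt (decRow z.2.2.2))
    rw [← hzf] at hc
    rcases hc with (hc | hc) | hc
    · -- singular: impossible
      exfalso
      simp only [sing, List.any_eq_true, List.mem_range, Bool.and_eq_true,
        decide_eq_true_eq] at hc
      obtain ⟨v, hvlt, hvne, hv⟩ := hc
      have h3 := decRow_rmul v z'
      rw [hv, decRow_zero] at h3
      have h4 : Matrix.vecMul (Matrix.vecMul (decRow v) (dec z')) (dec e.2 * M₀') = decRow v := by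
        rw [Matrix.vecMul_vecMul, hinv1, Matrix.vecMul_one]
      rw [← h3, Matrix.zero_vecMul] at h4
      exact hvne (decRow_eq_zero v hvlt h4.symm)
    · -- in the normaliser: impossible
      exfalso
      have hNz := N_of_isNJ ψ b ω hΦJ hk _ _ hinv1 hinv2 (isNJ_dec _ hc)
      rw [hdz', map_mul] at hNz
      have h5 := c3_N_mul hNz (nval e hval).2
      have h6 : phi ψ b M₀ * phi ψ b (dec e.1) * phi ψ b (dec e.2) = f₀ := by
        rw [mul_assoc, ← map_mul, e1, map_one, mul_one, hM₀, RingEquiv.apply_symm_apply]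
      rw [h6] at h5
      exact hnN h5
    · -- a transvection
      simp only [caseOK, Bool.and_eq_true, decide_eq_true_eq] at hc
      obtain ⟨⟨⟨⟨⟨v1, v2⟩, v3⟩, hw⟩, hw'⟩, hfin⟩ := hc
      set c := caseTab.getD (256 * bb + 16 * encRow (decRow z.2.2.1) + encRow (decRow z.2.2.2))
        ((0, 0, 0, 0), 0, 0, 0, false) with hcdef
      have hQw : P (phi ψ b (dec c.1)) := qinv _ _ hQz' hw hw'
      have hQt := qmul _ _ (qmul _ _ (qgen _ v3).1
        (qmul _ _ (qmul _ _ (qmul _ _ (qgen _ v1).1 hQz') (qgen _ v2).1) hQw)) (qgen _ v3).2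
      rw [hfin] at hQt
      cases hty : c.2.2.2.2
      · simp only [hty, cond_false] at hQt
        exact hQt
      · simp only [hty, cond_true] at hQt
        have hI := chkI2_true
        simp only [chkI2, Bool.and_eq_true, decide_eq_true_eq] at hI
        obtain ⟨⟨w1, w2⟩, hIeq⟩ := hI
        have hu := qcj (nl 5) tI w1 hQt
        have := qcj (nl 120) _ w2 (qmul _ _ (qmul _ _ hu hQt) hu)
        rw [hIeq] at this
        exact this
  -- all transvections
  have hTL := chkTL_true
  simp only [chkTL, List.all_eq_true, List.mem_range, Bool.or_eq_true] at hTL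
  have htv : ∀ A < 16, ∀ p < 16, par A p = false → P (phi ψ b (dec (tv A p))) := by
    intro A hA p hp hpar
    rcases hTL A hA p hp with h | h
    · rw [hpar] at h; exact absurd h (by decide)
    · simp only [tlOK, Bool.or_eq_true, Bool.and_eq_true, decide_eq_true_eq] at h
      rcases h with h | ⟨⟨w1, w2⟩, h⟩
      · rw [h]; exact qone
      · rw [← h]
        set c := tlTab.getD (16 * A + p) (0, 0) with hcdef
        by_cases h360 : c.2 = 360
        · simp only [h360, decide_true, cond_true]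
          exact qcj _ _ w1 hstar
        · simp only [h360, decide_false, cond_false]
          exact qmul _ _ (qcj _ _ w1 hstar) (qcj _ _ w2 hstar)
  intro a φ hφ
  have hdot := dot_tv ψ b a φ hφ
  have h7 := htv _ (encRow_lt (fun i => ψ.symm (b.repr a i))) _
    (encRow_lt (fun j => ψ.symm (φ (b j))))
    (par_aux _ (encRow_lt _) _ (encRow_lt _) (by rw [decRow_encRow, decRow_encRow]; exact hdot))
  rw [dec_tv_aux _ (encRow_lt _) _ (encRow_lt _), decRow_encRow, decRow_encRow, phi_tv] at h7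
  exact h7


/-- the index bijection used to order the `F`-basis `e₀, ω e₀, e₁, ω e₁` -/
def sigma : Fin 2 × Fin 2 ≃ Fin 4 where
  toFun p := ![![0, 2], ![1, 3]] p.1 p.2
  invFun k := ![(0, 0), (1, 0), (0, 1), (1, 1)] k
  left_inv := by decide
  right_inv := by decide

theorem exists_omega [Fintype F] [Fintype K] (hF : Fintype.card F = 2) (hK : finrank F K = 2) :
    ∃ ω : K, ω * ω = ω + 1 ∧ LinearIndependent F ![(1 : K), ω] := by
  classical
  have hcard : Fintype.card K = 4 := by
    rw [Module.card_eq_pow_finrank (K := F) (V := K), hF, hK]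
    norm_num
  have h2 : (1 : K) + 1 = 0 := by
    have := congrArg (algebraMap F K) (f_two hF)
    simpa using this
  have hex : ∃ ω : K, ω ≠ 0 ∧ ω ≠ 1 := by
    by_contra hcon
    push Not at hcon
    have hsub : (Finset.univ : Finset K) ⊆ {0, 1} := by
      intro x _
      by_cases hx : x = 0
      · simp [hx]
      · simp [hcon x hx]
    have := Finset.card_le_card hsub
    rw [Finset.card_univ, hcard, Finset.card_pair zero_ne_one] at this
    omega
  obtain ⟨ω, hω0, hω1⟩ := hex
  have h3 : ω ^ 3 = 1 := by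
    have := FiniteField.pow_card_sub_one_eq_one ω hω0
    rw [hcard] at this
    exact this
  have h4 : ω ^ 2 + ω + 1 = 0 := by
    have h5 : (ω - 1) * (ω ^ 2 + ω + 1) = 0 := by linear_combination h3
    rcases mul_eq_zero.mp h5 with h | h
    · exact absurd (sub_eq_zero.mp h) hω1
    · exact h
  refine ⟨ω, by linear_combination h4 - (ω + 1) * h2, ?_⟩
  rw [LinearIndependent.pair_iff]
  intro s t hst
  rcases f_cases hF t with ht | ht
  · subst ht
    rw [zero_smul, add_zero] at hst
    rcases f_cases hF s with hs | hs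
    · exact ⟨hs, rfl⟩
    · subst hs
      rw [one_smul] at hst
      exact absurd hst one_ne_zero
  · subst ht
    rw [one_smul] at hst
    rcases f_cases hF s with hs | hs
    · subst hs
      rw [zero_smul, zero_add] at hst
      exact absurd hst hω0
    · subst hs
      rw [one_smul] at hst
      exfalso
      apply hω1
      linear_combination hst - h2

end glue

end Cfsg.Agent.Helper9.C3D

namespace Cfsg.Agent.Helper9

open Module Cfsg.Agent.Helper98 Cfsg.Agent.Helper9.C3D

/-- PIECE D of CALL S5886: the exceptional case `ΓL₂(4) < GL₄(2)`.  A subgroup predicate on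
the invertible `F₂`-endomorphisms of `V = F₄²` that contains all invertible `F₄`-semilinear maps
and one invertible map that is not semilinear contains all `F₂`-transvections. -/
theorem c3_case422 {F K V : Type*} [Field F] [Field K] [Algebra F K] [AddCommGroup V]
    [Module F V] [Module K V] [IsScalarTower F K V]
    [Fintype F] [Finite K] (hF : Fintype.card F = 2) (hK : finrank F K = 2)
    (hV : finrank K V = 2) {P : Module.End F V → Prop} (hP : C3P P)
    (hN : ∀ f : Module.End F V, c3_N K f → P f)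
    (f₀ g₀ : Module.End F V) (hf₀ : P f₀) (h1 : f₀ * g₀ = 1) (h2 : g₀ * f₀ = 1)
    (hnN : ¬ c3_N K f₀) :
    ∀ (a : V) (φ : V →ₗ[F] F), φ a = 0 → P (1 + c3_tv φ a) := by
  classical
  haveI : Fintype K := Fintype.ofFinite K
  obtain ⟨ω, hω, hli⟩ := exists_omega (F := F) (K := K) hF hK
  let cK : Basis (Fin 2) F K := basisOfLinearIndependentOfCardEqFinrank hli (by simp [hK])
  have hcK : ⇑cK = ![(1 : K), ω] := coe_basisOfLinearIndependentOfCardEqFinrank hli _
  haveI : Module.Finite K V := Module.finite_of_finrank_pos (by omega)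
  let e : Basis (Fin 2) K V := Module.finBasisOfFinrankEq K V hV
  let b : Basis (Fin 4) F V := (cK.smulTower e).reindex sigma
  have hb : ∀ k : Fin 4, b k = cK (sigma.symm k).1 • e (sigma.symm k).2 := by
    intro k
    rw [Basis.reindex_apply, Basis.smulTower_apply]
  have b0 : b 0 = e 0 := by
    rw [hb 0, hcK]
    show ((1 : K)) • e 0 = e 0
    rw [one_smul]
  have b1 : b 1 = ω • e 0 := by
    rw [hb 1, hcK]
    rfl
  have b2 : b 2 = e 1 := by
    rw [hb 2, hcK]
    show ((1 : K)) • e 1 = e 1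
    rw [one_smul]
  have b3 : b 3 = ω • e 1 := by
    rw [hb 3, hcK]
    rfl
  have hk : ∀ k : K, ∃ r s : F, k = r • (1 : K) + s • ω := by
    intro k
    refine ⟨cK.repr k 0, cK.repr k 1, ?_⟩
    have := cK.sum_repr k
    rw [Fin.sum_univ_two, hcK] at this
    exact this.symm
  refine main_of_basis (ZMod.ringEquivOfPrime F Nat.prime_two hF) b ω ?_ ?_ ?_ ?_ hk hP hN
    f₀ g₀ hf₀ h1 h2 hnN
  · rw [b0, b1]
  · rw [b0, b1, smul_smul, hω, add_smul, one_smul, add_comm]
  · rw [b2, b3]
  · rw [b2, b3, smul_smul, hω, add_smul, one_smul, add_comm]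

end Cfsg.Agent.Helper9
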