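import Mathlib
import Cfsg.Agent.Helper9.BRDefs
import Cfsg.Agent.Helper9.D7920T11A
import Cfsg.Agent.Helper81.CharBasic

/-!
# Piece E2A of CALL S4429 (helper8): arithmetic of the principal 5-block, `|N(Q):C(Q)| = 2`
(helper9)
-/

set_option autoImplicit false
set_option linter.style.haveILetI false
set_option maxHeartbeats 1000000
open Cfsg
open scoped ComplexConjugate

universe u

namespace Cfsg.Agent.Helper9

/-- PIECE E2A. -/
theorem o7920_five_two_arith {G : Type u} [Group G] [Fintype G]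
    [Fintype (Cfsg.IrrCharacter G)] {M : Ideal Cfsg.AlgInt} (Q : Sylow 5 G)
    (T : Cfsg.Agent.Helper9.BRTab 5 M Q 2)
    (hdvd : ∀ χ : Cfsg.IrrCharacter G, Cfsg.charDegree (χ : G → ℂ) ∣ 7920)
    (h2 : ∀ χ : Cfsg.IrrCharacter G, χ ≠ Helper81.trivIrr G →
      2 ≤ Cfsg.charDegree (χ : G → ℂ))
    (hsq : ∑ χ : Cfsg.IrrCharacter G, Cfsg.charDegree (χ : G → ℂ) ^ 2 = 7920) :
    (∃ χ : Cfsg.IrrCharacter G, T.X1 = {χ} ∧ T.X2 = ∅ ∧ T.ε = 1 ∧
      Cfsg.charDegree (χ : G → ℂ) = 11) ∨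
    (∃ χ ∈ T.X2, Cfsg.charDegree (χ : G → ℂ) = 4 ∨ Cfsg.charDegree (χ : G → ℂ) = 9) := by
  classical
  have hD : ∀ χ : Cfsg.IrrCharacter G, _ := fun χ =>
    d7920_divisors_le _ (hdvd χ)
      (d7920_degree_le (fun χ : Cfsg.IrrCharacter G => Cfsg.charDegree (χ : G → ℂ)) hsq χ)
  have hX1d : ∀ χ ∈ T.X1, Cfsg.charDegree (χ : G → ℂ) = 6 ∨
      Cfsg.charDegree (χ : G → ℂ) = 11 ∨ Cfsg.charDegree (χ : G → ℂ) = 16 ∨
      Cfsg.charDegree (χ : G → ℂ) = 36 ∨ Cfsg.charDegree (χ : G → ℂ) = 66 := by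
    intro χ hχ
    have hne : χ ≠ Helper81.trivIrr G := fun e => T.h1X1 (e ▸ hχ)
    have h2' := h2 χ hne
    have hmem := hD χ
    have hmod := (T.hX1 χ hχ).1
    unfold Int.ModEq at hmod
    omega
  have hX2d : ∀ χ ∈ T.X2, Cfsg.charDegree (χ : G → ℂ) = 4 ∨
      Cfsg.charDegree (χ : G → ℂ) = 9 ∨ Cfsg.charDegree (χ : G → ℂ) = 24 ∨
      Cfsg.charDegree (χ : G → ℂ) = 44 := by
    intro χ hχ
    have hne : χ ≠ Helper81.trivIrr G := fun e => T.h1X2 (e ▸ hχ)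
    have h2' := h2 χ hne
    have hmem := hD χ
    have hmod := (T.hX2 χ hχ).1
    unfold Int.ModEq at hmod
    omega
  have hrelZ : ∀ θ ∈ T.Y, T.ε * (Cfsg.charDegree (θ : G → ℂ) : ℤ) =
      1 + ((∑ χ ∈ T.X1, Cfsg.charDegree (χ : G → ℂ) : ℕ) : ℤ)
        - ((∑ χ ∈ T.X2, Cfsg.charDegree (χ : G → ℂ) : ℕ) : ℤ) := by
    intro θ hθ
    have h := T.hrel θ hθ 1 (by rw [orderOf_one]; norm_num)
    simp only [Helper81.irr_one_eq_charDegree] at h
    have h' : ((T.ε * (Cfsg.charDegree (θ : G → ℂ) : ℤ) : ℤ) : ℂ) =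
        ((1 + ((∑ χ ∈ T.X1, Cfsg.charDegree (χ : G → ℂ) : ℕ) : ℤ)
        - ((∑ χ ∈ T.X2, Cfsg.charDegree (χ : G → ℂ) : ℕ) : ℤ) : ℤ) : ℂ) := by
      push_cast; exact h
    exact_mod_cast h'
  have hcard := T.hcard
  have hY2 : T.Y.card = 2 := by rw [T.hcardY]
  obtain ⟨θ1, θ2, hne12, hYeq⟩ := Finset.card_eq_two.mp hY2
  have hθ1 : θ1 ∈ T.Y := by rw [hYeq]; simp
  have hr := hrelZ θ1 hθ1
  have hm := hD θ1
  rcases Nat.eq_zero_or_pos T.X2.card with h0 | hpos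
  · -- `X2 = ∅`, `X1 = {χ}`
    left
    have hX2e : T.X2 = ∅ := Finset.card_eq_zero.mp h0
    have hk : T.X1.card = 1 := by omega
    obtain ⟨χ, hX1eq⟩ := Finset.card_eq_one.mp hk
    have hχ : χ ∈ T.X1 := by rw [hX1eq]; exact Finset.mem_singleton_self χ
    have hd := hX1d χ hχ
    rw [hX1eq, hX2e, Finset.sum_singleton, Finset.sum_empty] at hr
    have hε1 : T.ε = 1 := by
      rcases T.hε with he | he
      · exact he
      · exfalso
        rw [he] at hr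
        push_cast at hr
        omega
    refine ⟨χ, hX1eq, hX2e, hε1, ?_⟩
    rw [hε1] at hr
    push_cast at hr
    omega
  · -- `X2 = {χ}`, `X1 = ∅`
    right
    have hk : T.X2.card = 1 := by omega
    have h0 : T.X1.card = 0 := by omega
    have hX1e : T.X1 = ∅ := Finset.card_eq_zero.mp h0
    obtain ⟨χ, hX2eq⟩ := Finset.card_eq_one.mp hk
    have hχ : χ ∈ T.X2 := by rw [hX2eq]; exact Finset.mem_singleton_self χ
    have hd := hX2d χ hχ
    rw [hX2eq, hX1e, Finset.sum_singleton, Finset.sum_empty] at hr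
    refine ⟨χ, hχ, ?_⟩
    rcases T.hε with he | he
    · exfalso
      rw [he] at hr
      push_cast at hr
      omega
    · rw [he] at hr
      push_cast at hr
      omega

end Cfsg.Agent.Helper9
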