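import Mathlib
import Cfsg.Agent.Helper9.BRDefs
import Cfsg.Agent.Helper81.CharBasic
import Cfsg.Agent.Helper81.Blocks
import Cfsg.Agent.Helper80.CharOrtho

/-!
# Piece E2B3 of CALL S4429 (helper8): the centraliser of the involution has order `≥ 210`
(helper9)
-/

set_option autoImplicit false
set_option linter.style.haveILetI false
set_option maxHeartbeats 1000000
open Cfsg
open scoped ComplexConjugate

universe u

namespace Cfsg.Agent.Helper9

/-- PIECE E2B3. -/
theorem o7920_five_two_cent {G : Type u} [Group G] [Fintype G]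
    {M : Ideal Cfsg.AlgInt} (Q : Sylow 5 G)
    (T : Cfsg.Agent.Helper9.BRTab 5 M Q 2) (c : G) (hc : orderOf c = 2)
    (χ : Cfsg.IrrCharacter G) (hX1 : T.X1 = {χ}) (hX2 : T.X2 = ∅) (hε : T.ε = 1)
    (hval : (χ : G → ℂ) c = -9) :
    210 ≤ Nat.card (Subgroup.centralizer ({c} : Set G)) := by
  classical
  letI := Fintype.ofFinite (Cfsg.IrrCharacter G)
  have hY2 : T.Y.card = 2 := by rw [T.hcardY]
  obtain ⟨θ1, θ2, hne12, hYeq⟩ := Finset.card_eq_two.mp hY2
  have hθ1 : θ1 ∈ T.Y := by rw [hYeq]; simp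
  have hθ2 : θ2 ∈ T.Y := by rw [hYeq]; simp
  have h5 : ¬ 5 ∣ orderOf c := by rw [hc]; norm_num
  have hv : ∀ θ ∈ T.Y, (θ : G → ℂ) c = -8 := by
    intro θ hθ
    have h := T.hrel θ hθ c h5
    rw [hX1, hX2, hε, Finset.sum_singleton, Finset.sum_empty, hval] at h
    push_cast at h
    rw [one_mul] at h
    rw [h]; norm_num
  have hχ : χ ∈ T.X1 := by rw [hX1]; exact Finset.mem_singleton_self χ
  have h1χ : Helper81.trivIrr G ≠ χ := fun e => T.h1X1 (e ▸ hχ)
  have h1θ1 : Helper81.trivIrr G ≠ θ1 := fun e => T.h1Y (e ▸ hθ1)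
  have h1θ2 : Helper81.trivIrr G ≠ θ2 := fun e => T.h1Y (e ▸ hθ2)
  have hχθ1 : χ ≠ θ1 := fun e => (Finset.disjoint_left.mp T.hX1Y hχ) (e ▸ hθ1)
  have hχθ2 : χ ≠ θ2 := fun e => (Finset.disjoint_left.mp T.hX1Y hχ) (e ▸ hθ2)
  have horth := Helper80.irr_finsum_column_orthogonality_of_isConj (IsConj.refl c)
  rw [finsum_eq_sum_of_fintype] at horth
  have hre : ∑ ψ : Cfsg.IrrCharacter G, Complex.normSq ((ψ : G → ℂ) c) =
      (Nat.card (Subgroup.centralizer ({c} : Set G)) : ℝ) := by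
    have := congrArg Complex.re horth
    rw [Complex.re_sum] at this
    simp only [Complex.mul_conj, Complex.ofReal_re, Complex.natCast_re] at this
    exact this
  obtain ⟨n, hn⟩ : ∃ n : ℕ, n = Nat.card (Subgroup.centralizer ({c} : Set G)) := ⟨_, rfl⟩
  rw [← hn] at hre ⊢
  have hsub : ∑ ψ ∈ ({Helper81.trivIrr G, χ, θ1, θ2} : Finset (Cfsg.IrrCharacter G)),
      Complex.normSq ((ψ : G → ℂ) c) ≤
      ∑ ψ : Cfsg.IrrCharacter G, Complex.normSq ((ψ : G → ℂ) c) :=
    Finset.sum_le_sum_of_subset_of_nonneg (Finset.subset_univ _)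
      (fun _ _ _ => Complex.normSq_nonneg _)
  rw [hre, Finset.sum_insert (by simp [h1χ, h1θ1, h1θ2]),
    Finset.sum_insert (by simp [hχθ1, hχθ2]), Finset.sum_insert (by simp [hne12]),
    Finset.sum_singleton, Helper81.trivIrr_apply, hval, hv θ1 hθ1, hv θ2 hθ2] at hsub
  norm_num at hsub
  exact_mod_cast hsub

end Cfsg.Agent.Helper9
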