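import Mathlib
import Cfsg.Prelude.Def_OddOrderLocal

set_option autoImplicit false

namespace Cfsg.Agent.Helper9.TypeExcl

open Cfsg

/-- Sylow conjugacy into a Hall subgroup: an element of prime order `p` of `M`, with `p` dividing the
order of the Hall subgroup `W` of `M`, is `M`-conjugate into `W`. -/
theorem conj_mem_hall {G : Type*} [Group G] [Finite G] (M W : Subgroup G) (hW : W ≤ M)
    (hcop : (Nat.card W).Coprime (W.relIndex M)) (p : ℕ) (hp : p.Prime) (hpW : p ∣ Nat.card W)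
    (y : G) (hy : y ∈ M) (hord : orderOf y = p) : ∃ m ∈ M, m * y * m⁻¹ ∈ W := by
  classical
  have : Fact p.Prime := ⟨hp⟩
  set W' : Subgroup ↥M := W.subgroupOf M with hW'
  have hcardW' : Nat.card W' = Nat.card W := Nat.card_congr (Subgroup.subgroupOfEquivOfLe hW).toEquiv
  have hidx : W'.index = W.relIndex M := rfl
  have hpn : ¬ p ∣ W'.index := by
    intro h
    rw [hidx] at h
    have := Nat.Coprime.eq_one_of_dvd (hcop.coprime_dvd_left hpW) h
    exact hp.one_lt.ne' this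
  have hMcard : Nat.card ↥M = Nat.card W' * W'.index := (Subgroup.card_mul_index W').symm
  have hfac : (Nat.card ↥M).factorization p = (Nat.card W').factorization p := by
    rw [hMcard, Nat.factorization_mul Nat.card_pos.ne' (Subgroup.index_ne_zero_of_finite)]
    simp [Nat.factorization_eq_zero_of_not_dvd hpn]
  obtain P : Sylow p ↥W' := default
  set P' : Subgroup ↥M := (P : Subgroup ↥W').map W'.subtype with hP'
  have hP'card : Nat.card P' = p ^ (Nat.card ↥M).factorization p := by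
    rw [hfac, ← Sylow.card_eq_multiplicity P]
    exact Nat.card_congr ((P : Subgroup ↥W').equivMapOfInjective W'.subtype
      (Subgroup.subtype_injective _)).symm.toEquiv
  let S₁ : Sylow p ↥M := Sylow.ofCard P' hP'card
  let y' : ↥M := ⟨y, hy⟩
  have hy'ord : orderOf y' = p := by
    rw [← hord, ← Subgroup.orderOf_coe y']
  have hpg : IsPGroup p (Subgroup.zpowers y') := by
    apply IsPGroup.of_card (n := 1)
    rw [Nat.card_zpowers, hy'ord, pow_one]
  obtain ⟨Q, hQ⟩ := hpg.exists_le_sylow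
  obtain ⟨g, hg⟩ := MulAction.exists_smul_eq ↥M S₁ Q
  have hyQ : y' ∈ (Q : Subgroup ↥M) := hQ (Subgroup.mem_zpowers y')
  rw [← hg, Sylow.coe_subgroup_smul, Subgroup.mem_pointwise_smul_iff_inv_smul_mem] at hyQ
  have h2 : g⁻¹ * y' * g ∈ P' := by
    have h := hyQ
    rw [MulAut.smul_def, MulAut.conj_inv_apply] at h
    exact h
  rw [hP', Subgroup.mem_map] at h2
  obtain ⟨z, -, hz⟩ := h2
  refine ⟨(g⁻¹ : ↥M), (g⁻¹ : ↥M).2, ?_⟩
  have h3 : ((g⁻¹ * y' * g : ↥M) : G) = ((g⁻¹ : ↥M) : G) * y * ((g⁻¹ : ↥M) : G)⁻¹ := by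
    simp [y']
  rw [← h3, ← hz]
  exact Subgroup.mem_subgroupOf.mp z.2

/-- Type-P data on `M` exclude that `M` is of Frobenius type: a non-identity element of `W₁` centralizes
`W₂ ≠ 1` inside `M_F`, while a Frobenius-type group has a subgroup `U₀` of full exponent acting without
fixed points on `M_F`. -/
theorem not_typeF_of_typeP {G : Type*} [Group G] [Finite G] (M W₁ U W₂ : Subgroup G)
    (hP : IsTypePWith M W₁ U W₂) : ¬ IsOfTypeF ↥M := by
  classical
  rintro ⟨-, -, -, -, UF, -, hcompl, -, U₀, hU₀le, hexp, hfpf⟩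
  obtain ⟨hM'le, hW₁le, hinf, -⟩ := hP.W₁_compl
  have hHle : fittingHallOf M ≤ ⁅M, M⁆ := hP.U_compl.1
  have hW₁card : Nat.card W₁ ≠ 1 := fun h => hP.W₁_ne (Subgroup.card_eq_one.mp h)
  obtain ⟨p, hp, hpW⟩ := Nat.exists_prime_and_dvd hW₁card
  have : Fact p.Prime := ⟨hp⟩
  have hnorm : ∀ m ∈ M, ∀ x ∈ fittingHallOf M, m * x * m⁻¹ ∈ fittingHallOf M := by
    intro m hm x hx
    obtain ⟨x', hx', rfl⟩ := hx
    exact ⟨⟨m, hm⟩ * x' * ⟨m, hm⟩⁻¹, (fittingHall_normal ↥M).conj_mem x' hx' ⟨m, hm⟩, by simp⟩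
  have hconj1 : ∀ m t : G, m * t * m⁻¹ = 1 → t = 1 := by
    intro m t h
    have := congrArg (fun s => m⁻¹ * s * m) h
    simpa [mul_assoc] using this
  have hpH : ¬ p ∣ Nat.card (fittingHall ↥M) := by
    intro hdvd
    obtain ⟨h, hh⟩ := exists_prime_orderOf_dvd_card' p hdvd
    have hhG : orderOf ((h : ↥M) : G) = p := by
      rw [Subgroup.orderOf_coe, Subgroup.orderOf_coe, hh]
    obtain ⟨m, hm, hmem⟩ := conj_mem_hall M W₁ hW₁le hP.W₁_hall p hp hpW _ (h : ↥M).2 hhG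
    have hin : m * ((h : ↥M) : G) * m⁻¹ ∈ fittingHallOf M := hnorm m hm _ ⟨(h : ↥M), h.2, rfl⟩
    have h1 : m * ((h : ↥M) : G) * m⁻¹ ∈ ⁅M, M⁆ ⊓ W₁ := ⟨hHle hin, hmem⟩
    rw [hinf, Subgroup.mem_bot] at h1
    rw [hconj1 _ _ h1, orderOf_one] at hhG
    exact hp.one_lt.ne hhG
  have hcardM : Nat.card (fittingHall ↥M) * Nat.card UF = Nat.card ↥M := hcompl.card_mul_card
  have hpM : p ∣ Nat.card ↥M := hpW.trans (Subgroup.card_dvd_of_le hW₁le)
  have hpUF : p ∣ Nat.card UF := by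
    rw [← hcardM] at hpM
    exact (hp.dvd_mul.mp hpM).resolve_left hpH
  obtain ⟨v, hv⟩ := exists_prime_orderOf_dvd_card' p hpUF
  have hpexp : p ∣ Monoid.exponent ↥UF := hv ▸ Monoid.order_dvd_exponent v
  rw [← hexp] at hpexp
  have hpU₀ : p ∣ Nat.card U₀ := hpexp.trans Group.exponent_dvd_nat_card
  obtain ⟨u, hu⟩ := exists_prime_orderOf_dvd_card' p hpU₀
  have huG : orderOf (((u : ↥M)) : G) = p := by
    rw [Subgroup.orderOf_coe, Subgroup.orderOf_coe, hu]
  obtain ⟨m, hm, hmem⟩ := conj_mem_hall M W₁ hW₁le hP.W₁_hall p hp hpW _ (u : ↥M).2 huG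
  have hne : m * ((u : ↥M) : G) * m⁻¹ ≠ 1 := by
    intro h1
    rw [hconj1 _ _ h1, orderOf_one] at huG
    exact hp.one_lt.ne huG
  have hcent := hP.W₂_centralizer _ hmem hne
  obtain ⟨⟨x, hx⟩, hx1⟩ := (Subgroup.ne_bot_iff_exists_ne_one).mp hP.selfNormalizing.2.1
  have hx1' : x ≠ 1 := fun h => hx1 (Subtype.ext h)
  have hxc : x ∈ ⁅M, M⁆ ⊓ Subgroup.centralizer ({m * ((u : ↥M) : G) * m⁻¹} : Set G) := by
    rw [hcent]; exact hx
  have hcomm : m * ((u : ↥M) : G) * m⁻¹ * x = x * (m * ((u : ↥M) : G) * m⁻¹) :=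
    Subgroup.mem_centralizer_iff.mp hxc.2 _ rfl
  have hxH : x ∈ fittingHallOf M := (hP.W₂_le hx).1
  have hx' : m⁻¹ * x * m ∈ fittingHallOf M := by
    have := hnorm m⁻¹ (inv_mem hm) x hxH
    simpa using this
  obtain ⟨x'', hx''mem, hx''eq⟩ := hx'
  have hu1 : (u : ↥M) ≠ 1 := by
    intro h
    have : orderOf (u : ↥M) = p := by rw [Subgroup.orderOf_coe, hu]
    rw [h, orderOf_one] at this
    exact hp.one_lt.ne this
  have hc2 : (u : ↥M) * x'' = x'' * (u : ↥M) := by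
    apply Subtype.ext
    have e : ((x'' : ↥M) : G) = m⁻¹ * x * m := hx''eq
    rw [Subgroup.coe_mul, Subgroup.coe_mul, e]
    have h3 : ((u : ↥M) : G) = m⁻¹ * (m * ((u : ↥M) : G) * m⁻¹) * m := by group
    calc ((u : ↥M) : G) * (m⁻¹ * x * m)
        = m⁻¹ * ((m * ((u : ↥M) : G) * m⁻¹) * x) * m := by group
      _ = m⁻¹ * (x * (m * ((u : ↥M) : G) * m⁻¹)) * m := by rw [hcomm]
      _ = m⁻¹ * x * m * ((u : ↥M) : G) := by group
  have h4 := hfpf (u : ↥M) u.2 hu1 x'' hx''mem hc2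
  have h5 : m⁻¹ * x * m = 1 := by rw [← hx''eq, h4]; rfl
  have h6 := hconj1 m⁻¹ x (by simpa using h5)
  exact hx1' h6

/-- Type-P data on `M` exclude Type I. -/
theorem not_typeI_of_typeP {G : Type*} [Group G] [Finite G] (M W₁ U W₂ : Subgroup G)
    (hP : IsTypePWith M W₁ U W₂) : ¬ IsOfTypeI M :=
  fun h => not_typeF_of_typeP M W₁ U W₂ hP h.1

theorem not_typeI_of_typeII {G : Type*} [Group G] [Finite G] {M : Subgroup G}
    (h : IsOfTypeII M) : ¬ IsOfTypeI M := by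
  obtain ⟨W₁, U, W₂, hP, -⟩ := h
  exact not_typeI_of_typeP M W₁ U W₂ hP

theorem not_typeI_of_typeIII {G : Type*} [Group G] [Finite G] {M : Subgroup G}
    (h : IsOfTypeIII M) : ¬ IsOfTypeI M := by
  obtain ⟨W₁, U, W₂, hP, -⟩ := h
  exact not_typeI_of_typeP M W₁ U W₂ hP

theorem not_typeI_of_typeIV {G : Type*} [Group G] [Finite G] {M : Subgroup G}
    (h : IsOfTypeIV M) : ¬ IsOfTypeI M := by
  obtain ⟨W₁, U, W₂, hP, -⟩ := h
  exact not_typeI_of_typeP M W₁ U W₂ hP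

theorem not_typeI_of_typeV {G : Type*} [Group G] [Finite G] {M : Subgroup G}
    (h : IsOfTypeV M) : ¬ IsOfTypeI M := by
  obtain ⟨W₁, U, W₂, hP, -⟩ := h
  exact not_typeI_of_typeP M W₁ U W₂ hP

/-- Type I excludes Types III and IV. -/
theorem not_typeIII_or_IV_of_typeI {G : Type*} [Group G] [Finite G] {M : Subgroup G}
    (h : IsOfTypeI M) : ¬ (IsOfTypeIII M ∨ IsOfTypeIV M) := by
  rintro (h3 | h4)
  · exact not_typeI_of_typeIII h3 h
  · exact not_typeI_of_typeIV h4 h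

/-- `M_s = M_F` when `M` is not of Type III or IV. -/
theorem typeCore_eq_of_not {G : Type*} [Group G] {M : Subgroup G}
    (h : ¬ (IsOfTypeIII M ∨ IsOfTypeIV M)) : typeCore M = fittingHallOf M := by
  unfold typeCore
  exact if_neg h

/-- `A₁(M) = M_F ∖ {1}` when `M` is not of Type III or IV. -/
theorem typeA1_eq_of_not {G : Type*} [Group G] {M : Subgroup G}
    (h : ¬ (IsOfTypeIII M ∨ IsOfTypeIV M)) :
    typeA1 M = (↑(fittingHallOf M) : Set G) \ {1} := by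
  unfold typeA1
  rw [typeCore_eq_of_not h]

/-- `A(M)` for `M` of Type I. -/
theorem typeA_eq_of_typeI {G : Type*} [Group G] {M : Subgroup G} (h : IsOfTypeI M) :
    typeA M = {a | a ∈ M ∧ a ≠ 1 ∧ ∃ x ∈ fittingHallOf M, x ≠ 1 ∧ a * x = x * a} := by
  unfold typeA
  exact if_pos h

/-- `A(M)` for `M` not of Type I, III or IV (for instance of Type II or V). -/
theorem typeA_eq_of_not {G : Type*} [Group G] {M : Subgroup G} (h1 : ¬ IsOfTypeI M)
    (h : ¬ (IsOfTypeIII M ∨ IsOfTypeIV M)) :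
    typeA M = {a | a ∈ ⁅M, M⁆ ∧ a ≠ 1 ∧ ∃ x ∈ fittingHallOf M, x ≠ 1 ∧ a * x = x * a} := by
  unfold typeA
  rw [if_neg h1, typeCore_eq_of_not h]

/-- Type I: `M_s = M_F`, `A₁(M) = M_F ∖ {1}`. -/
theorem typeCore_eq_of_typeI {G : Type*} [Group G] [Finite G] {M : Subgroup G}
    (h : IsOfTypeI M) : typeCore M = fittingHallOf M :=
  typeCore_eq_of_not (not_typeIII_or_IV_of_typeI h)

theorem typeA1_eq_of_typeI {G : Type*} [Group G] [Finite G] {M : Subgroup G}
    (h : IsOfTypeI M) : typeA1 M = (↑(fittingHallOf M) : Set G) \ {1} :=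
  typeA1_eq_of_not (not_typeIII_or_IV_of_typeI h)

end Cfsg.Agent.Helper9.TypeExcl
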